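import Mathlib
import Cfsg.Prelude.Def_CharExt
import Cfsg.Agent.H79.GaloisChar
import Cfsg.Agent.H19.DetExt
import Cfsg.Agent.Lib.Helper96.ProjLift3
import Cfsg.Agent.H82.CyclicExtChar
import Cfsg.Agent.H82.IndDeg

/-!
# Canonical extensions (lead)

`G ⊴ Γ` with `(|G|, [Γ:G]) = 1`.  A *canonical extension* of `χ ∈ Irr(G)` is an irreducible
character of `Γ` extending `χ` whose determinantal order is prime to `[Γ:G]`.  It is unique; it
exists when `Γ/G` is cyclic and `χ` is invariant; and it is fixed by the Galois automorphisms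
fixing the `|G|`-th roots of unity.
-/

set_option autoImplicit false
set_option linter.style.haveILetI false

namespace Cfsg.Agent.Glaub

open Cfsg Cfsg.Agent.H4

universe u

variable {Γ : Type u} [Group Γ]

section Det

theorem detChar_mul [Finite Γ] {X : Γ → ℂ} (hX : IsCharacter Γ X) (x y : Γ) :
    detChar X (x * y) = detChar X x * detChar X y := by
  obtain ⟨n, ρ, rfl⟩ := hX
  rw [Cfsg.Agent.Lib.Helper96.detChar_eq, Cfsg.Agent.Lib.Helper96.detChar_eq,
    Cfsg.Agent.Lib.Helper96.detChar_eq, map_mul, map_mul]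

theorem detChar_one [Finite Γ] {X : Γ → ℂ} (hX : IsCharacter Γ X) : detChar X 1 = 1 := by
  obtain ⟨n, ρ, rfl⟩ := hX
  rw [Cfsg.Agent.Lib.Helper96.detChar_eq, map_one, map_one]

theorem detChar_pow [Finite Γ] {X : Γ → ℂ} (hX : IsCharacter Γ X) (x : Γ) (k : ℕ) :
    detChar X (x ^ k) = detChar X x ^ k := by
  induction k with
  | zero => rw [pow_zero, pow_zero, detChar_one hX]
  | succ k ih => rw [pow_succ, pow_succ, detChar_mul hX, ih]

theorem detChar_pow_card [Finite Γ] {X : Γ → ℂ} (hX : IsCharacter Γ X) (x : Γ) :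
    detChar X x ^ Nat.card Γ = 1 := by
  rw [← detChar_pow hX, pow_card_eq_one', detChar_one hX]

theorem detChar_ne_zero [Finite Γ] {X : Γ → ℂ} (hX : IsCharacter Γ X) (x : Γ) :
    detChar X x ≠ 0 := by
  intro h0
  have h := detChar_pow_card hX x
  rw [h0, zero_pow Nat.card_pos.ne'] at h
  exact zero_ne_one h

theorem detChar_restrict [Finite Γ] (G : Subgroup Γ) {X : Γ → ℂ} (hX : IsCharacter Γ X) (g : G) :
    detChar (fun g : G => X g) g = detChar X g := by
  obtain ⟨n, ρ, rfl⟩ := hX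
  let σ : Representation ℂ G (Fin n → ℂ) := ρ.comp G.subtype
  have h1 : (fun g : G => ρ.character g) = σ.character := rfl
  rw [h1, Cfsg.Agent.Lib.Helper96.detChar_eq, Cfsg.Agent.Lib.Helper96.detChar_eq]
  rfl

/-- The determinantal character as a homomorphism. -/
noncomputable def detHom [Finite Γ] {X : Γ → ℂ} (hX : IsCharacter Γ X) : Γ →* ℂˣ where
  toFun x := Units.mk0 (detChar X x) (detChar_ne_zero hX x)
  map_one' := by
    apply Units.ext
    simp [detChar_one hX]
  map_mul' x y := by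
    apply Units.ext
    simp [detChar_mul hX]

theorem detHom_apply [Finite Γ] {X : Γ → ℂ} (hX : IsCharacter Γ X) (x : Γ) :
    ((detHom hX x : ℂˣ) : ℂ) = detChar X x := rfl

theorem isCharacter_detChar [Finite Γ] {X : Γ → ℂ} (hX : IsCharacter Γ X) :
    IsCharacter Γ (detChar X) := by
  have h := isCharacter_of_isIrrCharacter (Cfsg.Agent.H82.linChar (detHom hX)).2
  have h2 : (Cfsg.Agent.H82.linChar (detHom hX)).1 = detChar X := by
    funext x
    rw [Cfsg.Agent.H82.linChar_apply, detHom_apply]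
  rwa [h2] at h

theorem detOrder_pos [Finite Γ] {X : Γ → ℂ} (hX : IsCharacter Γ X) : 0 < detOrder X := by
  unfold detOrder
  apply orderOf_pos_iff.mpr
  rw [isOfFinOrder_iff_pow_eq_one]
  refine ⟨Nat.card Γ, Nat.card_pos, ?_⟩
  funext x
  simp [detChar_pow_card hX x]

theorem detChar_pow_detOrder [Finite Γ] (X : Γ → ℂ) (x : Γ) :
    detChar X x ^ detOrder X = 1 := by
  have h := pow_orderOf_eq_one (detChar X)
  have h2 := congrFun h x
  simpa [detOrder] using h2

theorem detOrder_dvd [Finite Γ] (X : Γ → ℂ) (a : ℕ) (h : ∀ x, detChar X x ^ a = 1) :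
    detOrder X ∣ a := by
  unfold detOrder
  apply orderOf_dvd_of_pow_eq_one
  funext x
  simp [h x]

end Det

section Canon

variable [Finite Γ] (G : Subgroup Γ) [hG : G.Normal]

/-- Two multiplicative functions of order prime to `[Γ:G]` agreeing on `G` are equal. -/
theorem eq_of_coprime_order (μ μ' : Γ → ℂ)
    (hμ : ∀ x y, μ (x * y) = μ x * μ y) (hμ' : ∀ x y, μ' (x * y) = μ' x * μ' y)
    (hG' : ∀ g : G, μ g = μ' g) (a b : ℕ) (ha : 0 < a) (hμa : ∀ x, μ x ^ a = 1)
    (hμb : ∀ x, μ' x ^ b = 1) (hca : a.Coprime G.index) (hcb : b.Coprime G.index) :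
    μ = μ' := by
  funext x
  have hne : μ x ≠ 0 := by
    intro h0
    have := hμa x
    rw [h0, zero_pow ha.ne'] at this
    exact zero_ne_one this
  have hpow : ∀ (ν : Γ → ℂ), (∀ x y, ν (x * y) = ν x * ν y) → ∀ k : ℕ, 0 < k →
      ν (x ^ k) = ν x ^ k := by
    intro ν hν k hk
    induction k with
    | zero => exact absurd hk (lt_irrefl 0)
    | succ k ih =>
      rcases Nat.eq_zero_or_pos k with h0 | h0
      · subst h0; simp
      · rw [pow_succ, pow_succ, hν, ih h0]
  have hidx : 0 < G.index := Nat.pos_of_ne_zero Subgroup.index_ne_zero_of_finite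
  have h1 : μ x ^ G.index = μ' x ^ G.index := by
    rw [← hpow μ hμ _ hidx, ← hpow μ' hμ' _ hidx]
    exact hG' ⟨x ^ G.index, Subgroup.pow_index_mem G x⟩
  set r := μ' x * (μ x)⁻¹ with hr
  have hr1 : r ^ G.index = 1 := by
    rw [hr, mul_pow, inv_pow, ← h1, mul_inv_cancel₀ (pow_ne_zero _ hne)]
  have hr2 : r ^ (a * b) = 1 := by
    rw [hr, mul_pow, inv_pow, mul_comm a b, pow_mul, hμb, one_pow, mul_comm b a, pow_mul, hμa,
      one_pow, inv_one, mul_one]
  have hgcd : Nat.gcd G.index (a * b) = 1 :=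
    Nat.Coprime.symm (Nat.Coprime.mul_left hca hcb)
  have hr3 : r ^ Nat.gcd G.index (a * b) = 1 := pow_gcd_eq_one.mpr ⟨hr1, hr2⟩
  rw [hgcd, pow_one] at hr3
  rw [hr] at hr3
  have := (mul_inv_eq_one₀ hne).mp hr3
  exact this.symm

/-- `X` is a canonical extension of `χ`. -/
def IsCanonExt (χ : G → ℂ) (X : Γ → ℂ) : Prop :=
  IsIrrCharacter Γ X ∧ (∀ g : G, X g = χ g) ∧ (detOrder X).Coprime G.index

variable {G}

omit hG in
theorem coprime_index_degree (hcop : (Nat.card G).Coprime G.index) {χ : G → ℂ}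
    (hχ : IsIrrCharacter G χ) : Nat.Coprime G.index (charDegree χ) :=
  (Nat.Coprime.coprime_dvd_left (Cfsg.Agent.H82.charDegree_dvd_card ⟨χ, hχ⟩) hcop).symm

/-- Uniqueness of the canonical extension. -/
theorem IsCanonExt.unique (hcop : (Nat.card G).Coprime G.index) {χ : G → ℂ}
    (hχ : IsIrrCharacter G χ) {X X' : Γ → ℂ} (h : IsCanonExt G χ X) (h' : IsCanonExt G χ X') :
    X = X' := by
  obtain ⟨hX, hXG, hXd⟩ := h
  obtain ⟨hX', hXG', hXd'⟩ := h'
  have hXc := isCharacter_of_isIrrCharacter hX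
  have hXc' := isCharacter_of_isIrrCharacter hX'
  have hdet : detChar X = detChar X' := by
    apply eq_of_coprime_order G (detChar X) (detChar X') (detChar_mul hXc) (detChar_mul hXc')
      _ (detOrder X) (detOrder X') (detOrder_pos hXc) (detChar_pow_detOrder X)
      (detChar_pow_detOrder X') hXd hXd'
    intro g
    rw [← detChar_restrict G hXc g, ← detChar_restrict G hXc' g]
    have : (fun g : G => X g) = fun g : G => X' g := by
      funext g; rw [hXG, hXG']
    rw [this]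
  have hd : χ 1 = (charDegree χ : ℂ) := Cfsg.Agent.H82.irr_one_eq_charDegree ⟨χ, hχ⟩
  have hμN : ∀ n : G, detChar X n = detChar χ n := by
    intro g
    rw [← detChar_restrict G hXc g]
    have : (fun g : G => X g) = χ := funext hXG
    rw [this]
  have huniq := Cfsg.Agent.H19.exists_unique_ext_with_det G χ hχ (charDegree χ) hd
    (coprime_index_degree hcop hχ) X hX hXG (detChar X)
    (isCharacter_detChar hXc) (detChar_one hXc) hμN
  exact huniq.unique ⟨hX, hXG, rfl⟩ ⟨hX', hXG', hdet.symm⟩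

theorem pow_eq_self_of_modEq {z : ℂ} {n e : ℕ} (hz : z ^ n = 1) (he : e ≡ 1 [MOD n]) :
    z ^ e = z := by
  rcases Nat.eq_zero_or_pos e with h0 | h0
  · subst h0
    have h1 : n ∣ 1 := (Nat.modEq_zero_iff_dvd).mp he.symm
    have h2 : n = 1 := Nat.dvd_one.mp h1
    rw [h2, pow_one] at hz
    rw [hz, pow_zero]
  · have h1 : n ∣ e - 1 := (Nat.modEq_iff_dvd' h0).mp he.symm
    obtain ⟨q, hq⟩ := h1
    have h2 : e = 1 + n * q := by omega
    rw [h2, pow_add, pow_one, pow_mul, hz, one_pow, mul_one]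

/-- Existence of the canonical extension of an invariant character (cyclic quotient). -/
theorem exists_canonExt (hcop : (Nat.card G).Coprime G.index) (hcyc : IsCyclic (Γ ⧸ G))
    {χ : G → ℂ} (hχ : IsIrrCharacter G χ)
    (hinv : ∀ (x : Γ) (g : G), χ ⟨x * g * x⁻¹, hG.conj_mem (g : Γ) g.2 x⟩ = χ g) :
    ∃ X : Γ → ℂ, IsCanonExt G χ X := by
  obtain ⟨η, hη, hηG⟩ := Cfsg.Agent.H82.exists_extension_of_cyclic G hcyc χ hχ hinv
  have hηc := isCharacter_of_isIrrCharacter hη
  have hχc := isCharacter_of_isIrrCharacter hχ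
  obtain ⟨e, he1, he2⟩ : ∃ e : ℕ, e ≡ 1 [MOD Nat.card G] ∧ G.index ∣ e := by
    obtain ⟨e, h1, h2⟩ := Nat.chineseRemainder hcop 1 0
    exact ⟨e, h1, (Nat.modEq_zero_iff_dvd).mp h2⟩
  set f : Γ →* ℂˣ := (detHom hηc) ^ e with hf
  set μ : Γ → ℂ := (Cfsg.Agent.H82.linChar f).1 with hμdef
  have hμapp : ∀ x, μ x = detChar η x ^ e := by
    intro x
    rw [hμdef, Cfsg.Agent.H82.linChar_apply, hf, MonoidHom.pow_apply, Units.val_pow_eq_pow_val,
      detHom_apply]
  have hμ1 : μ 1 = 1 := by rw [hμapp, detChar_one hηc, one_pow]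
  have hμN : ∀ n : G, μ n = detChar χ n := by
    intro g
    rw [hμapp, ← detChar_restrict G hηc g]
    have h1 : (fun g : G => η g) = χ := funext hηG
    rw [h1]
    exact pow_eq_self_of_modEq (detChar_pow_card hχc g) he1
  have hd : χ 1 = (charDegree χ : ℂ) := Cfsg.Agent.H82.irr_one_eq_charDegree ⟨χ, hχ⟩
  obtain ⟨X, ⟨hX, hXG, hXdet⟩, -⟩ := Cfsg.Agent.H19.exists_unique_ext_with_det G χ hχ
    (charDegree χ) hd (coprime_index_degree hcop hχ) η hη hηG μ
    (isCharacter_of_isIrrCharacter (Cfsg.Agent.H82.linChar f).2) hμ1 hμN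
  refine ⟨X, hX, hXG, ?_⟩
  have hdvd : detOrder X ∣ Nat.card G := by
    apply detOrder_dvd X
    intro x
    rw [hXdet, hμapp, ← pow_mul]
    obtain ⟨q, rfl⟩ := he2
    have h2 : G.index * q * Nat.card G = Nat.card Γ * q := by
      rw [← Subgroup.card_mul_index G]; ring
    rw [h2, pow_mul, detChar_pow_card hηc, one_pow]
  exact Nat.Coprime.coprime_dvd_left hdvd hcop

/-- Galois invariance of the canonical extension. -/
theorem IsCanonExt.pow_eq (hcop : (Nat.card G).Coprime G.index) {χ : G → ℂ}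
    (hχ : IsIrrCharacter G χ) {X : Γ → ℂ} (h : IsCanonExt G χ X) (K : ℕ)
    (hK : K.Coprime (Nat.card Γ)) (hK1 : K ≡ 1 [MOD Nat.card G]) (x : Γ) :
    X (x ^ K) = X x := by
  have h0 := h
  obtain ⟨hX, hXG, hXd⟩ := h
  have hXc := isCharacter_of_isIrrCharacter hX
  have hX' : IsIrrCharacter Γ (fun x => X (x ^ K)) :=
    Cfsg.Agent.H79.isIrrCharacter_comp_pow K hK hX
  have hXG' : ∀ g : G, X ((g : Γ) ^ K) = χ g := by
    intro g
    have h1 : g ^ K = g ^ 1 := pow_eq_pow_iff_modEq.mpr (hK1.of_dvd (orderOf_dvd_natCard g))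
    rw [pow_one] at h1
    have h2 : (g : Γ) ^ K = g := by
      rw [← Subgroup.coe_pow, h1]
    rw [h2, hXG]
  have hdet : ∀ x, detChar (fun x => X (x ^ K)) x = detChar X x ^ K := by
    obtain ⟨n, ρ, hirr, hρ⟩ := hX
    obtain ⟨τ, hτ⟩ := Cfsg.Agent.H79.exists_ringEquiv_complex_pow (Nat.card Γ) K Nat.card_pos hK
    set ρ' := Cfsg.Agent.H79.galoisRep (τ : ℂ →+* ℂ) ρ with hρ'
    have hchar : ρ'.character = fun x => X (x ^ K) := by
      funext x
      rw [hρ', Cfsg.Agent.H79.galoisRep_character,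
        Cfsg.Agent.H79.ringHom_character_eq_pow ρ (Nat.card Γ) K Nat.card_pos _ hτ x
          pow_card_eq_one', hρ]
    intro x
    rw [← hchar, Cfsg.Agent.Lib.Helper96.detChar_eq ρ' x]
    have h1 : LinearMap.det (ρ' x) = τ (LinearMap.det (ρ x)) := by
      change LinearMap.det (Matrix.toLin' ((LinearMap.toMatrix' (ρ x)).map (τ : ℂ →+* ℂ))) = _
      rw [LinearMap.det_toLin', ← RingHom.mapMatrix_apply, ← RingHom.map_det,
        LinearMap.det_toMatrix']
      rfl
    rw [h1, ← Cfsg.Agent.Lib.Helper96.detChar_eq ρ x, hρ, hτ _ (detChar_pow_card hXc x)]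
  have hcan : IsCanonExt G χ (fun x => X (x ^ K)) := by
    refine ⟨hX', hXG', ?_⟩
    have hdvd : detOrder (fun x => X (x ^ K)) ∣ detOrder X := by
      apply detOrder_dvd
      intro x
      rw [hdet, ← pow_mul, mul_comm, pow_mul, detChar_pow_detOrder, one_pow]
    exact Nat.Coprime.coprime_dvd_left hdvd hXd
  exact congrFun (IsCanonExt.unique hcop hχ hcan h0) x

end Canon

end Cfsg.Agent.Glaub
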