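import Mathlib
import Cfsg.Agent.H1.Coprime

/-!
# Coprime action of a cyclic group: the coset `G s` (lead)

`Γ = G ⋊ S` internally, `S = ⟨s⟩` cyclic, `(|G|, |S|) = 1`, `C = C_G(S)`.  Every element of the
coset `G s` is `G`-conjugate to an element of `C s`, and a class function `F` of `Γ` satisfies
`|C| ∑_{u ∈ G} F (u s) = |G| ∑_{c ∈ C} F (c s)`.
-/

set_option autoImplicit false

namespace Cfsg.Agent.Glaub

open scoped Pointwise

variable {Γ : Type*} [Group Γ]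

/-- The standing hypotheses: `G` normal, `S = ⟨s⟩` a complement of coprime order. -/
structure Setup (G S : Subgroup Γ) (s : Γ) : Prop where
  normal : G.Normal
  cop : (Nat.card G).Coprime (Nat.card S)
  top : G ⊔ S = ⊤
  gen : Subgroup.zpowers s = S

namespace Setup

variable {G S : Subgroup Γ} {s : Γ}

theorem s_mem (h : Setup G S s) : s ∈ S := h.gen ▸ Subgroup.mem_zpowers s

theorem inf_eq_bot (h : Setup G S s) : G ⊓ S = ⊥ :=
  (Subgroup.disjoint_of_coprime_natCard h.cop).eq_bot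

theorem orderOf_s (h : Setup G S s) : orderOf s = Nat.card S := by
  rw [← h.gen, Nat.card_zpowers]

theorem card_eq [Finite Γ] (h : Setup G S s) : Nat.card Γ = Nat.card G * Nat.card S := by
  haveI := h.normal
  have h1 := Cfsg.Agent.H1.card_sup_of_le_normalizer S G
    (by rw [Subgroup.normalizer_eq_top]; exact le_top) (by rw [inf_comm]; exact h.inf_eq_bot)
  rw [sup_comm, h.top, Subgroup.card_top] at h1
  rw [h1, mul_comm]

theorem pow_card_G {c : Γ} (hc : c ∈ G) : c ^ Nat.card G = 1 := by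
  have h1 : (⟨c, hc⟩ : G) ^ Nat.card G = 1 := pow_card_eq_one'
  exact congrArg Subtype.val h1

theorem pow_card_S {t : Γ} (ht : t ∈ S) : t ^ Nat.card S = 1 := by
  have h1 : (⟨t, ht⟩ : S) ^ Nat.card S = 1 := pow_card_eq_one'
  exact congrArg Subtype.val h1

/-- A CRT exponent: `≡ 0 mod |G|`, `≡ 1 mod |S|`. -/
theorem exists_crt (h : Setup G S s) :
    ∃ a : ℕ, Nat.card G ∣ a ∧ a ≡ 1 [MOD Nat.card S] := by
  obtain ⟨a, ha1, ha2⟩ := Nat.chineseRemainder h.cop 0 1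
  exact ⟨a, (Nat.modEq_zero_iff_dvd).mp ha1, ha2⟩

theorem pow_S_of_modEq {t : Γ} (ht : t ∈ S) {a b : ℕ} (hab : a ≡ b [MOD Nat.card S]) :
    t ^ a = t ^ b := by
  have h1 : orderOf t ∣ Nat.card S := orderOf_dvd_of_pow_eq_one (pow_card_S ht)
  exact pow_eq_pow_iff_modEq.mpr (hab.of_dvd h1)

theorem pow_G_of_modEq {c : Γ} (hc : c ∈ G) {a b : ℕ} (hab : a ≡ b [MOD Nat.card G]) :
    c ^ a = c ^ b := by
  have h1 : orderOf c ∣ Nat.card G := orderOf_dvd_of_pow_eq_one (pow_card_G hc)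
  exact pow_eq_pow_iff_modEq.mpr (hab.of_dvd h1)

/-- `(c t)^a = t` for commuting `c ∈ G`, `t ∈ S` and a CRT exponent `a`. -/
theorem mul_pow_crt {c t : Γ} (hc : c ∈ G) (ht : t ∈ S) (hct : Commute c t) {a : ℕ}
    (ha1 : Nat.card G ∣ a) (ha2 : a ≡ 1 [MOD Nat.card S]) : (c * t) ^ a = t := by
  rw [hct.mul_pow]
  have h1 : c ^ a = 1 := by
    obtain ⟨q, rfl⟩ := ha1
    rw [pow_mul, pow_card_G hc, one_pow]
  rw [h1, one_mul, pow_S_of_modEq ht ha2, pow_one]

/-- Every element of the coset `G s` is `G`-conjugate to `c s` with `c ∈ C_G(s)`. -/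
theorem exists_conj [Finite Γ] (h : Setup G S s) (x : Γ)
    (hx : (QuotientGroup.mk x : Γ ⧸ G) = QuotientGroup.mk s) :
    ∃ g ∈ G, ∃ c ∈ G, Commute c s ∧ x = g * (c * s) * g⁻¹ := by
  haveI := h.normal
  obtain ⟨a, ha1, ha2⟩ := h.exists_crt
  have hsS := h.s_mem
  set y := x ^ a with hy
  have hsa : s ^ a = s := by rw [pow_S_of_modEq hsS ha2, pow_one]
  have hyq : (QuotientGroup.mk y : Γ ⧸ G) = QuotientGroup.mk s := by
    rw [hy, QuotientGroup.mk_pow, hx, ← QuotientGroup.mk_pow, hsa]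
  have hym : y ^ Nat.card S = 1 := by
    rw [hy, ← pow_mul]
    obtain ⟨q, rfl⟩ := ha1
    have : Nat.card G * q * Nat.card S = Nat.card Γ * q := by rw [h.card_eq]; ring
    rw [this, pow_mul, pow_card_eq_one', one_pow]
  have hord : orderOf y = Nat.card S := by
    apply Nat.dvd_antisymm (orderOf_dvd_of_pow_eq_one hym)
    rw [← h.orderOf_s]
    apply orderOf_dvd_of_pow_eq_one
    have h1 : (QuotientGroup.mk (s ^ orderOf y) : Γ ⧸ G) = 1 := by
      rw [QuotientGroup.mk_pow, ← hyq, ← QuotientGroup.mk_pow, pow_orderOf_eq_one]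
      rfl
    have h2 : s ^ orderOf y ∈ G := (QuotientGroup.eq_one_iff _).mp h1
    have h3 : s ^ orderOf y ∈ G ⊓ S := ⟨h2, S.pow_mem hsS _⟩
    rw [h.inf_eq_bot] at h3
    exact h3
  have hSsolv : Group.IsSolvable S := by
    have h1 : ∀ a b : S, a * b = b * a := by
      intro a b
      have ha : (a : Γ) ∈ Subgroup.zpowers s := by rw [h.gen]; exact a.2
      have hb : (b : Γ) ∈ Subgroup.zpowers s := by rw [h.gen]; exact b.2
      obtain ⟨i, hi⟩ := Subgroup.mem_zpowers_iff.mp ha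
      obtain ⟨j, hj⟩ := Subgroup.mem_zpowers_iff.mp hb
      apply Subtype.ext
      rw [Subgroup.coe_mul, Subgroup.coe_mul, ← hi, ← hj, ← zpow_add, ← zpow_add, add_comm]
    exact Group.isSolvable_of_comm h1
  obtain ⟨d, hd, hconj⟩ := Cfsg.Agent.H1.sz_conj_internal S G (Subgroup.zpowers y)
    (by rw [Subgroup.normalizer_eq_top]; exact le_top) h.cop.symm (Or.inl hSsolv)
    (by rw [sup_comm, h.top]; exact le_top) (by rw [Nat.card_zpowers, hord])
  have hyT : y ∈ MulAut.conj d • S := by rw [hconj]; exact Subgroup.mem_zpowers y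
  rw [Subgroup.mem_pointwise_smul_iff_inv_smul_mem] at hyT
  have ht : d⁻¹ * y * d ∈ S := by
    have : (MulAut.conj d)⁻¹ • y = d⁻¹ * y * d := by
      rw [← map_inv, MulAut.smul_def, MulAut.conj_apply, inv_inv]
    rwa [this] at hyT
  have hdq : (QuotientGroup.mk d : Γ ⧸ G) = 1 := (QuotientGroup.eq_one_iff _).mpr hd
  have hts : d⁻¹ * y * d = s := by
    have h1 : (QuotientGroup.mk (d⁻¹ * y * d) : Γ ⧸ G) = QuotientGroup.mk s := by
      rw [QuotientGroup.mk_mul, QuotientGroup.mk_mul, QuotientGroup.mk_inv, hdq, hyq]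
      simp
    have h2 : (d⁻¹ * y * d)⁻¹ * s ∈ G := QuotientGroup.eq.mp h1
    have h3 : (d⁻¹ * y * d)⁻¹ * s ∈ G ⊓ S := ⟨h2, S.mul_mem (S.inv_mem ht) hsS⟩
    rw [h.inf_eq_bot, Subgroup.mem_bot] at h3
    exact (inv_mul_eq_one.mp h3)
  set x' := d⁻¹ * x * d with hx'
  have hx'a : x' ^ a = s := by
    have h1 := conj_pow (a := d⁻¹) (b := x) (i := a)
    rw [inv_inv] at h1
    rw [hx', h1, ← hy]
    exact hts
  have hcomm : Commute x' s := by
    rw [← hx'a]
    exact (Commute.refl x').pow_right a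
  refine ⟨d, hd, x' * s⁻¹, ?_, ?_, ?_⟩
  · apply (QuotientGroup.eq_one_iff _).mp
    rw [QuotientGroup.mk_mul, QuotientGroup.mk_inv, hx', QuotientGroup.mk_mul,
      QuotientGroup.mk_mul, QuotientGroup.mk_inv, hdq, hx]
    simp
  · exact (hcomm.mul_left (Commute.refl s).inv_left)
  · rw [inv_mul_cancel_right, hx']
    group

/-- If `g (c s) g⁻¹ = d s` then `g` commutes with `s` and `d = g c g⁻¹`. -/
theorem conj_eq (h : Setup G S s) {g c d : Γ} (hc : c ∈ G) (hcs : Commute c s)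
    (hd : d ∈ G) (hds : Commute d s) (heq : g * (c * s) * g⁻¹ = d * s) :
    Commute g s ∧ d = g * c * g⁻¹ := by
  obtain ⟨a, ha1, ha2⟩ := h.exists_crt
  have hsS := h.s_mem
  have h1 : g * s * g⁻¹ = s := by
    have := congrArg (· ^ a) heq
    rw [conj_pow, mul_pow_crt hc hsS hcs ha1 ha2, mul_pow_crt hd hsS hds ha1 ha2] at this
    exact this
  have hgs : Commute g s := by
    have : g * s = s * g := by
      calc g * s = g * s * g⁻¹ * g := by group
        _ = s * g := by rw [h1]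
    exact this
  refine ⟨hgs, ?_⟩
  have h2 : g * (c * s) * g⁻¹ = g * c * g⁻¹ * (g * s * g⁻¹) := by group
  rw [h2, h1] at heq
  exact (mul_right_cancel heq).symm

theorem mem_C_of_commute (h : Setup G S s) {c : Γ} (hc : c ∈ G) (hcs : Commute c s) :
    c ∈ G ⊓ Subgroup.centralizer (S : Set Γ) := by
  refine Subgroup.mem_inf.mpr ⟨hc, ?_⟩
  rw [Subgroup.mem_centralizer_iff]
  intro t ht
  have ht' : t ∈ Subgroup.zpowers s := by rw [h.gen]; exact ht
  obtain ⟨i, rfl⟩ := Subgroup.mem_zpowers_iff.mp ht'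
  exact ((hcs.zpow_right i).eq).symm

theorem commute_of_mem_C (h : Setup G S s) {c : Γ}
    (hc : c ∈ G ⊓ Subgroup.centralizer (S : Set Γ)) : Commute c s :=
  ((Subgroup.mem_centralizer_iff.mp hc.2) s h.s_mem).symm

/-- The coset sum formula: `|C| ∑_{u ∈ G} F (u s) = |G| ∑_{c ∈ C} F (c s)` for every function `F`
invariant under conjugation by `G`. -/
theorem sum_coset [Finite Γ] (h : Setup G S s) [Fintype G]
    [Fintype (G ⊓ Subgroup.centralizer (S : Set Γ) : Subgroup Γ)]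
    (F : Γ → ℂ) (hF : ∀ g ∈ G, ∀ x, F (g * x * g⁻¹) = F x) :
    (Nat.card (G ⊓ Subgroup.centralizer (S : Set Γ) : Subgroup Γ) : ℂ) * ∑ u : G, F (u * s) =
      (Nat.card G : ℂ) *
        ∑ c : (G ⊓ Subgroup.centralizer (S : Set Γ) : Subgroup Γ), F (c * s) := by
  classical
  set C := G ⊓ Subgroup.centralizer (S : Set Γ) with hC
  have hn := h.normal
  have hCs : ∀ c : C, Commute (c : Γ) s := fun c => h.commute_of_mem_C c.2
  have hmem : ∀ (g : G) (c : C), (g : Γ) * (c * s) * (g : Γ)⁻¹ * s⁻¹ ∈ G := by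
    intro g c
    have h1 : (g : Γ) * (c * s) * (g : Γ)⁻¹ * s⁻¹ = g * c * (s * (g : Γ)⁻¹ * s⁻¹) := by group
    rw [h1]
    exact G.mul_mem (G.mul_mem g.2 c.2.1) (hn.conj_mem _ (G.inv_mem g.2) s)
  let φ : G × C → G := fun p => ⟨(p.1 : Γ) * (p.2 * s) * (p.1 : Γ)⁻¹ * s⁻¹, hmem p.1 p.2⟩
  have hφ : ∀ p : G × C, ((φ p : G) : Γ) * s = (p.1 : Γ) * (p.2 * s) * (p.1 : Γ)⁻¹ := by
    intro p
    simp [φ]
  have h1 : ∑ p : G × C, F ((φ p : Γ) * s) = (Nat.card G : ℂ) * ∑ c : C, F (c * s) := by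
    have : ∀ p : G × C, F ((φ p : Γ) * s) = F (p.2 * s) := by
      intro p
      rw [hφ, hF _ p.1.2]
    simp_rw [this]
    rw [Fintype.sum_prod_type]
    simp [Finset.sum_const, Nat.card_eq_fintype_card]
  have h2 : ∑ p : G × C, F ((φ p : Γ) * s) = ∑ u : G, (Nat.card C : ℂ) * F (u * s) := by
    rw [← Finset.sum_fiberwise_of_maps_to (g := φ) (t := Finset.univ)
      (fun _ _ => Finset.mem_univ _)]
    refine Finset.sum_congr rfl fun u _ => ?_
    rw [Finset.sum_congr rfl (fun p hp => by rw [(Finset.mem_filter.mp hp).2]),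
      Finset.sum_const, nsmul_eq_mul]
    congr 2
    rw [Nat.card_eq_fintype_card, ← Finset.card_univ]
    symm
    obtain ⟨g0, hg0, c0, hc0, hc0s, hu⟩ := h.exists_conj ((u : Γ) * s) (by
      rw [QuotientGroup.mk_mul, (QuotientGroup.eq_one_iff _).mpr u.2, one_mul])
    have hc0C : c0 ∈ C := h.mem_C_of_commute hc0 hc0s
    refine Finset.card_bij
      (fun (k : C) _ => ((⟨g0 * k, G.mul_mem hg0 k.2.1⟩ : G),
        (⟨(k : Γ)⁻¹ * c0 * k, C.mul_mem (C.mul_mem (C.inv_mem k.2) hc0C) k.2⟩ : C))) ?_ ?_ ?_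
    · intro k _
      rw [Finset.mem_filter]
      refine ⟨Finset.mem_univ _, ?_⟩
      apply Subtype.ext
      have hk := hCs k
      have e : (g0 * (k : Γ)) * (((k : Γ)⁻¹ * c0 * k) * s) * (g0 * (k : Γ))⁻¹ =
          g0 * (c0 * ((k : Γ) * s * (k : Γ)⁻¹)) * g0⁻¹ := by group
      have e2 : (k : Γ) * s * (k : Γ)⁻¹ = s := mul_inv_eq_iff_eq_mul.mpr hk.eq
      change (g0 * (k : Γ)) * (((k : Γ)⁻¹ * c0 * k) * s) * (g0 * (k : Γ))⁻¹ * s⁻¹ = u
      rw [e, e2, ← hu]
      group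
    · intro k _ k' _ hkk
      have h3 := congrArg (fun p : G × C => ((p.1 : G) : Γ)) hkk
      simp only at h3
      exact Subtype.ext (mul_left_cancel h3)
    · intro p hp
      rw [Finset.mem_filter] at hp
      have h3 : (p.1 : Γ) * (p.2 * s) * (p.1 : Γ)⁻¹ = g0 * (c0 * s) * g0⁻¹ := by
        rw [← hφ, hp.2, hu]
      have h4 : (g0⁻¹ * (p.1 : Γ)) * (p.2 * s) * (g0⁻¹ * (p.1 : Γ))⁻¹ = c0 * s := by
        have : (g0⁻¹ * (p.1 : Γ)) * (p.2 * s) * (g0⁻¹ * (p.1 : Γ))⁻¹ =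
            g0⁻¹ * ((p.1 : Γ) * (p.2 * s) * (p.1 : Γ)⁻¹) * g0 := by group
        rw [this, h3]
        group
      obtain ⟨h5, h6⟩ := h.conj_eq p.2.2.1 (hCs p.2) hc0 hc0s h4
      have hkG : g0⁻¹ * (p.1 : Γ) ∈ G := G.mul_mem (G.inv_mem hg0) p.1.2
      refine ⟨⟨g0⁻¹ * (p.1 : Γ), h.mem_C_of_commute hkG h5⟩, Finset.mem_univ _, ?_⟩
      apply Prod.ext
      · apply Subtype.ext
        change g0 * (g0⁻¹ * (p.1 : Γ)) = p.1
        group
      · apply Subtype.ext
        change (g0⁻¹ * (p.1 : Γ))⁻¹ * c0 * (g0⁻¹ * (p.1 : Γ)) = p.2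
        rw [h6]
        group
  have h3 := h1.symm.trans h2
  rw [← Finset.mul_sum] at h3
  convert h3.symm

end Setup

end Cfsg.Agent.Glaub
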