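import Mathlib
import Cfsg.Agent.Lib.Glaub.Coset
import Cfsg.Agent.H4.Chars
import Cfsg.Agent.H82.Irr
import Cfsg.Agent.H19.DetExt

/-!
# Fourier analysis on the cyclic quotient `Γ/G` (lead)

A linear character `ℓ` of `Γ` with kernel `G`; the coset inner product formula; the norm of an
extension on the coset `G s`; orthogonality on the coset of extensions of distinct characters.
-/

set_option autoImplicit false
set_option linter.style.haveILetI false

namespace Cfsg.Agent.Glaub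

open Cfsg Cfsg.Agent.H4
open scoped ComplexConjugate

universe u

variable {Γ : Type u} [Group Γ] {G S : Subgroup Γ} {s : Γ}

namespace Setup

theorem exists_mul (h : Setup G S s) (y : Γ) : ∃ g ∈ G, ∃ t ∈ S, y = g * t := by
  haveI := h.normal
  have h1 : y ∈ (↑(G ⊔ S) : Set Γ) := by rw [h.top]; exact Set.mem_univ y
  rw [Subgroup.normal_mul] at h1
  obtain ⟨g, hg, t, ht, rfl⟩ := Set.mem_mul.mp h1
  exact ⟨g, hg, t, ht, rfl⟩

/-- A linear character of `Γ` with kernel exactly `G`. -/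
theorem exists_lin [Finite Γ] (h : Setup G S s) :
    ∃ ℓ : Γ →* ℂˣ, (∀ y, ℓ y = 1 ↔ y ∈ G) ∧ ∀ y, ℓ y ^ Nat.card S = 1 := by
  haveI := h.normal
  set m := Nat.card S with hm
  have hm0 : m ≠ 0 := Nat.card_pos.ne'
  set g0 : Γ ⧸ G := QuotientGroup.mk s with hg0
  have hpow : ∀ j : ℕ, g0 ^ j = 1 ↔ s ^ j = 1 := by
    intro j
    rw [hg0, ← QuotientGroup.mk_pow, QuotientGroup.eq_one_iff]
    constructor
    · intro hj
      have : s ^ j ∈ G ⊓ S := ⟨hj, S.pow_mem h.s_mem j⟩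
      rw [h.inf_eq_bot] at this
      exact this
    · intro hj; rw [hj]; exact G.one_mem
  have hord : orderOf g0 = m := by
    rw [hm, ← h.orderOf_s]
    exact orderOf_eq_orderOf_iff.mpr hpow
  have hgen : ∀ x : Γ ⧸ G, x ∈ Subgroup.zpowers g0 := by
    intro x
    obtain ⟨y, rfl⟩ := QuotientGroup.mk_surjective x
    obtain ⟨g, hg, t, ht, rfl⟩ := h.exists_mul y
    have ht' : t ∈ Subgroup.zpowers s := by rw [h.gen]; exact ht
    obtain ⟨j, rfl⟩ := Subgroup.mem_zpowers_iff.mp ht'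
    rw [QuotientGroup.mk_mul, (QuotientGroup.eq_one_iff g).mpr hg, one_mul, QuotientGroup.mk_zpow]
    exact Subgroup.zpow_mem_zpowers g0 j
  obtain ⟨ω, hω⟩ : ∃ ω : ℂˣ, orderOf ω = m := by
    have hp := Complex.isPrimitiveRoot_exp m hm0
    have hne : Complex.exp (2 * Real.pi * Complex.I / m) ≠ 0 := Complex.exp_ne_zero _
    refine ⟨Units.mk0 _ hne, ?_⟩
    have hp' : IsPrimitiveRoot (Units.mk0 _ hne) m :=
      IsPrimitiveRoot.coe_units_iff.mp (by simpa using hp)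
    exact hp'.eq_orderOf.symm
  have hdvd : orderOf ω ∣ orderOf g0 := by rw [hω, hord]
  set ℓ' : Γ ⧸ G →* ℂˣ := monoidHomOfForallMemZpowers hgen hdvd with hℓ'
  have hgenval : ℓ' g0 = ω := monoidHomOfForallMemZpowers_apply_gen hgen hdvd
  refine ⟨ℓ'.comp (QuotientGroup.mk' G), ?_, ?_⟩
  · intro y
    rw [MonoidHom.comp_apply, QuotientGroup.mk'_apply]
    constructor
    · intro hy
      obtain ⟨j, hj⟩ := Subgroup.mem_zpowers_iff.mp (hgen (QuotientGroup.mk y))
      rw [← hj, map_zpow, hgenval] at hy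
      have h1 : (orderOf ω : ℤ) ∣ j := orderOf_dvd_iff_zpow_eq_one.mpr hy
      rw [hω, ← hord] at h1
      have h2 : g0 ^ j = 1 := orderOf_dvd_iff_zpow_eq_one.mp h1
      rw [hj] at h2
      exact (QuotientGroup.eq_one_iff y).mp h2
    · intro hy
      rw [(QuotientGroup.eq_one_iff y).mpr hy, map_one]
  · intro y
    rw [MonoidHom.comp_apply, ← map_pow]
    obtain ⟨j, hj⟩ := Subgroup.mem_zpowers_iff.mp (hgen (QuotientGroup.mk' G y))
    rw [← hj, ← zpow_natCast, ← zpow_mul, mul_comm, zpow_mul, zpow_natCast, ← hord,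
      pow_orderOf_eq_one, one_zpow, map_one]

end Setup

/-- The sum of the powers of a linear character with kernel `G`. -/
theorem sum_lin (ℓ : Γ →* ℂˣ) (hker : ∀ y, ℓ y = 1 ↔ y ∈ G)
    (hpow : ∀ y, ℓ y ^ Nat.card S = 1) (y : Γ) [Decidable (y ∈ G)] :
    ∑ i ∈ Finset.range (Nat.card S), ((ℓ y : ℂˣ) : ℂ) ^ i =
      if y ∈ G then (Nat.card S : ℂ) else 0 := by
  split_ifs with hy
  · rw [(hker y).mpr hy]; simp
  · have hne : ((ℓ y : ℂˣ) : ℂ) ≠ 1 := fun h1 => hy ((hker y).mp (Units.ext h1))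
    rw [geom_sum_eq hne]
    have : ((ℓ y : ℂˣ) : ℂ) ^ Nat.card S = 1 := by
      rw [← Units.val_pow_eq_pow_val, hpow]; rfl
    rw [this, sub_self, zero_div]

theorem lin_pow_val (ℓ : Γ →* ℂˣ) (hpow : ∀ y, ℓ y ^ Nat.card S = 1) (y : Γ) :
    ((ℓ y : ℂˣ) : ℂ) ^ Nat.card S = 1 := by
  rw [← Units.val_pow_eq_pow_val, hpow]; rfl

theorem lin_conj [Finite S] (ℓ : Γ →* ℂˣ) (hpow : ∀ y, ℓ y ^ Nat.card S = 1) (x : Γ) :
    conj ((ℓ x : ℂˣ) : ℂ) = ((ℓ x⁻¹ : ℂˣ) : ℂ) := by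
  have hnorm : ‖((ℓ x : ℂˣ) : ℂ)‖ = 1 :=
    Complex.norm_eq_one_of_pow_eq_one (lin_pow_val ℓ hpow x) Nat.card_pos.ne'
  rw [← RCLike.inv_eq_conj hnorm, map_inv, Units.val_inv_eq_inv_val]

/-- The coset inner product formula. -/
theorem coset_inner [Fintype Γ] [Fintype G] (ℓ : Γ →* ℂˣ) (hker : ∀ y, ℓ y = 1 ↔ y ∈ G)
    (hpow : ∀ y, ℓ y ^ Nat.card S = 1) (hcard : Nat.card Γ = Nat.card G * Nat.card S)
    (A B : Γ → ℂ) (t : Γ) :
    ∑ u : G, A (u * t) * conj (B (u * t)) =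
      (Nat.card G : ℂ) * ∑ i ∈ Finset.range (Nat.card S),
        ((ℓ t : ℂˣ) : ℂ) ^ i * classInner A (fun x => ((ℓ x : ℂˣ) : ℂ) ^ i * B x) := by
  classical
  have hΓ0 : Nat.card Γ ≠ 0 := Nat.card_pos.ne'
  have hS0 : Nat.card S ≠ 0 := fun h0 => hΓ0 (by rw [hcard, h0, mul_zero])
  have hG0 : Nat.card G ≠ 0 := fun h0 => hΓ0 (by rw [hcard, h0, zero_mul])
  haveI : Finite S := Nat.finite_of_card_ne_zero hS0
  have key : ∀ x, ∑ i ∈ Finset.range (Nat.card S), ((ℓ t : ℂˣ) : ℂ) ^ i *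
      (A x * conj (((ℓ x : ℂˣ) : ℂ) ^ i * B x)) =
      A x * conj (B x) * (if t * x⁻¹ ∈ G then (Nat.card S : ℂ) else 0) := by
    intro x
    rw [← sum_lin ℓ hker hpow (t * x⁻¹), Finset.mul_sum]
    refine Finset.sum_congr rfl fun i _ => ?_
    rw [map_mul, map_pow, lin_conj ℓ hpow, map_mul ℓ, Units.val_mul, mul_pow]
    ring
  have e1 : ∑ i ∈ Finset.range (Nat.card S), ((ℓ t : ℂˣ) : ℂ) ^ i *
      classInner A (fun x => ((ℓ x : ℂˣ) : ℂ) ^ i * B x) =
      (Nat.card Γ : ℂ)⁻¹ *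
        ∑ x : Γ, A x * conj (B x) * (if t * x⁻¹ ∈ G then (Nat.card S : ℂ) else 0) := by
    calc _ = ∑ i ∈ Finset.range (Nat.card S), ∑ x : Γ, (Nat.card Γ : ℂ)⁻¹ *
          (((ℓ t : ℂˣ) : ℂ) ^ i * (A x * conj (((ℓ x : ℂˣ) : ℂ) ^ i * B x))) := by
          refine Finset.sum_congr rfl fun i _ => ?_
          simp only [classInner]
          rw [Finset.mul_sum, Finset.mul_sum]
          refine Finset.sum_congr rfl fun x _ => ?_
          ring
      _ = ∑ x : Γ, (Nat.card Γ : ℂ)⁻¹ * ∑ i ∈ Finset.range (Nat.card S),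
          (((ℓ t : ℂˣ) : ℂ) ^ i * (A x * conj (((ℓ x : ℂˣ) : ℂ) ^ i * B x))) := by
          rw [Finset.sum_comm]
          refine Finset.sum_congr rfl fun x _ => ?_
          rw [Finset.mul_sum]
      _ = _ := by
          rw [Finset.mul_sum]
          refine Finset.sum_congr rfl fun x _ => ?_
          rw [key]
  have e2 : ∑ x : Γ, A x * conj (B x) * (if t * x⁻¹ ∈ G then (Nat.card S : ℂ) else 0) =
      (Nat.card S : ℂ) * ∑ u : G, A (u * t) * conj (B (u * t)) := by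
    rw [Finset.mul_sum]
    have : ∀ x : Γ, A x * conj (B x) * (if t * x⁻¹ ∈ G then (Nat.card S : ℂ) else 0) =
        if x * t⁻¹ ∈ G then (Nat.card S : ℂ) * (A x * conj (B x)) else 0 := by
      intro x
      have hiff : t * x⁻¹ ∈ G ↔ x * t⁻¹ ∈ G := by
        constructor <;> intro hh <;> simpa using G.inv_mem hh
      by_cases hx : x * t⁻¹ ∈ G
      · rw [if_pos hx, if_pos (hiff.mpr hx)]; ring
      · rw [if_neg hx, if_neg (fun h' => hx (hiff.mp h')), mul_zero]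
    simp_rw [this]
    rw [← Finset.sum_filter]
    symm
    refine Finset.sum_bij (fun (u : G) _ => (u : Γ) * t) ?_ ?_ ?_ ?_
    · intro u _
      rw [Finset.mem_filter]
      exact ⟨Finset.mem_univ _, by rw [mul_inv_cancel_right]; exact u.2⟩
    · intro u _ v _ huv
      exact Subtype.ext (mul_right_cancel huv)
    · intro x hx
      rw [Finset.mem_filter] at hx
      exact ⟨⟨x * t⁻¹, hx.2⟩, Finset.mem_univ _, by simp⟩
    · intro u _; rfl
  rw [e1, e2, hcard]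
  have hS0' : (Nat.card S : ℂ) ≠ 0 := by exact_mod_cast hS0
  have hG0' : (Nat.card G : ℂ) ≠ 0 := by exact_mod_cast hG0
  push_cast
  field_simp

/-- A twist of an irreducible character by a linear character is irreducible. -/
theorem twist_irr (ℓ : Γ →* ℂˣ) (i : ℕ) {X : Γ → ℂ} (hX : IsIrrCharacter Γ X) :
    IsIrrCharacter Γ (fun x => ((ℓ x : ℂˣ) : ℂ) ^ i * X x) := by
  obtain ⟨n, ρ, hirr, rfl⟩ := hX
  haveI := hirr
  refine ⟨n, Cfsg.Agent.H19.twistRep ρ (ℓ ^ i), Cfsg.Agent.H19.twistRep_irreducible ρ (ℓ ^ i), ?_⟩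
  funext x
  rw [Cfsg.Agent.H19.twistRep_character, MonoidHom.pow_apply, Units.val_pow_eq_pow_val]

namespace Setup

/-- Orthogonality on the coset `G s` of irreducible characters with distinct restrictions. -/
theorem coset_orth [Fintype Γ] [Fintype G] (h : Setup G S s) {X X' : Γ → ℂ}
    (hX : IsIrrCharacter Γ X) (hX' : IsIrrCharacter Γ X')
    (hne : (fun g : G => X g) ≠ (fun g : G => X' g)) :
    ∑ u : G, X (u * s) * conj (X' (u * s)) = 0 := by
  obtain ⟨ℓ, hker, hpow⟩ := h.exists_lin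
  rw [coset_inner ℓ hker hpow h.card_eq X X' s]
  have hz : ∀ i ∈ Finset.range (Nat.card S),
      ((ℓ s : ℂˣ) : ℂ) ^ i * classInner X (fun x => ((ℓ x : ℂˣ) : ℂ) ^ i * X' x) = 0 := by
    intro i _
    have h1 := irr_inner_ne (χ := ⟨X, hX⟩) (ψ := ⟨_, twist_irr ℓ i hX'⟩) (by
      intro heq
      apply hne
      have h2 := congrArg Subtype.val heq
      funext g
      have h3 := congrFun h2 (g : Γ)
      simp only at h3
      rw [h3, (hker g).mpr g.2]
      simp)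
    rw [h1, mul_zero]
  rw [Finset.sum_eq_zero hz, mul_zero]

/-- The norm of an extension on the coset `G s`. -/
theorem coset_norm [Fintype Γ] [Fintype G] (h : Setup G S s) {X : Γ → ℂ}
    (hX : IsIrrCharacter Γ X) (hXG : IsIrrCharacter G (fun g : G => X g)) :
    ∑ u : G, X (u * s) * conj (X (u * s)) = (Nat.card G : ℂ) := by
  classical
  obtain ⟨ℓ, hker, hpow⟩ := h.exists_lin
  have hG0 : (Nat.card G : ℂ) ≠ 0 := by
    have : 0 < Nat.card G := Nat.card_pos
    exact_mod_cast this.ne'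
  set a : ℕ → ℕ := fun i =>
    if (⟨X, hX⟩ : IrrCharacter Γ) = ⟨_, twist_irr ℓ i hX⟩ then 1 else 0 with ha
  have hinner : ∀ i, classInner X (fun x => ((ℓ x : ℂˣ) : ℂ) ^ i * X x) = (a i : ℂ) := by
    intro i
    have h1 := irr_inner (⟨X, hX⟩ : IrrCharacter Γ) ⟨_, twist_irr ℓ i hX⟩
    simp only at h1
    rw [h1]
    simp only [ha]
    by_cases hc : (⟨X, hX⟩ : IrrCharacter Γ) = ⟨_, twist_irr ℓ i hX⟩
    · rw [if_pos hc, if_pos hc]; simp
    · rw [if_neg hc, if_neg hc]; simp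
  have h1 := coset_inner ℓ hker hpow h.card_eq X X (1 : Γ)
  have h2 : ∑ u : G, X (u * 1) * conj (X (u * 1)) = (Nat.card G : ℂ) := by
    have h3 := irr_inner_self (⟨_, hXG⟩ : IrrCharacter G)
    simp only [classInner] at h3
    simp only [mul_one]
    exact ((inv_mul_eq_one₀ hG0).mp h3).symm
  rw [h2] at h1
  have h4 : ∑ i ∈ Finset.range (Nat.card S), a i = 1 := by
    have h5 : (Nat.card G : ℂ) * (∑ i ∈ Finset.range (Nat.card S),
        ((ℓ 1 : ℂˣ) : ℂ) ^ i * classInner X (fun x => ((ℓ x : ℂˣ) : ℂ) ^ i * X x)) =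
        (Nat.card G : ℂ) * 1 := by
      rw [mul_one]; exact h1.symm
    have h6 := mul_left_cancel₀ hG0 h5
    have h7 : ∑ i ∈ Finset.range (Nat.card S), ((a i : ℕ) : ℂ) = 1 := by
      rw [← h6]
      refine Finset.sum_congr rfl fun i _ => ?_
      rw [map_one, Units.val_one, one_pow, one_mul, hinner]
    exact_mod_cast h7
  have hm : 0 ∈ Finset.range (Nat.card S) := Finset.mem_range.mpr Nat.card_pos
  have ha0 : a 0 = 1 := by
    rw [ha]
    simp
  have h7 := Finset.add_sum_erase (Finset.range (Nat.card S)) a hm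
  rw [h4, ha0] at h7
  have h8 : ∑ i ∈ (Finset.range (Nat.card S)).erase 0, a i = 0 := by omega
  have h9 : ∀ i ∈ (Finset.range (Nat.card S)).erase 0, a i = 0 :=
    Finset.sum_eq_zero_iff.mp h8
  rw [coset_inner ℓ hker hpow h.card_eq X X s]
  rw [Finset.sum_eq_single 0]
  · rw [pow_zero, one_mul, hinner, ha0]; simp
  · intro i hi hi0
    rw [hinner, h9 i (Finset.mem_erase.mpr ⟨hi0, hi⟩)]; simp
  · intro h0; exact absurd hm h0

end Setup

end Cfsg.Agent.Glaub
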