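import Mathlib
import Cfsg.Agent.Lib.Glaub.Coset
import Cfsg.Agent.Lib.Glaub.Canon
import Cfsg.Agent.Lib.Glaub.Fourier
import Cfsg.Agent.H5.Galois
import Cfsg.Agent.H4.Burnside
import Cfsg.Agent.Lib.Clifford

/-!
# The Glauberman correspondence, cyclic case (lead): `χ̂(c s) = ε β(c)`
-/

set_option autoImplicit false
set_option linter.style.haveILetI false

namespace Cfsg.Agent.Glaub

open Cfsg Cfsg.Agent.H4
open scoped ComplexConjugate

universe u

variable {Γ : Type u} [Group Γ] {G S : Subgroup Γ} {s : Γ}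

/-- A nonnegative integer combination of roots of unity invariant under all Galois conjugations
is an integer. -/
theorem int_of_galois_invariant (m : ℕ) (hm : 0 < m) (w : ℂ) (hw : w ^ m = 1) (n : ℕ → ℕ)
    (hinv : ∀ k : ℕ, k.Coprime m → ∑ i ∈ Finset.range m, (n i : ℂ) * (w ^ k) ^ i =
      ∑ i ∈ Finset.range m, (n i : ℂ) * w ^ i) :
    ∃ z : ℤ, ∑ i ∈ Finset.range m, (n i : ℂ) * w ^ i = z := by
  classical
  haveI : NeZero m := ⟨hm.ne'⟩
  set T : Finset ℂ := (Finset.range m).image (fun i => w ^ i) with hT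
  set c : ℂ → ℕ := fun μ => ∑ j ∈ (Finset.range m).filter (fun j => w ^ j = μ), n j with hc
  have hTpow : ∀ μ ∈ T, μ ^ m = 1 := by
    intro μ hμ
    obtain ⟨i, -, rfl⟩ := Finset.mem_image.mp hμ
    rw [← pow_mul, mul_comm, pow_mul, hw, one_pow]
  have hsum : ∀ k : ℕ, ∑ μ ∈ T, (c μ : ℂ) * μ ^ k =
      ∑ i ∈ Finset.range m, (n i : ℂ) * (w ^ k) ^ i := by
    intro k
    rw [hT]
    apply Finset.sum_image'
    intro i _
    simp only [hc]
    rw [Nat.cast_sum, Finset.sum_mul]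
    refine Finset.sum_congr rfl fun j hj => ?_
    rw [← (Finset.mem_filter.mp hj).2, ← pow_mul, ← pow_mul, mul_comm j k]
  have h1 : ∀ k : ℕ, k.Coprime m → ∑ μ ∈ T, (c μ : ℂ) * μ ^ k = ∑ μ ∈ T, (c μ : ℂ) * μ := by
    intro k hk
    have h2 := hsum 1
    simp only [pow_one] at h2
    rw [hsum k, h2]
    exact hinv k hk
  obtain ⟨q, hq⟩ := (Cfsg.Agent.H5.rootsOfUnity_sum_rat_iff m T c hTpow).mpr h1
  have h2 := hsum 1
  simp only [pow_one] at h2
  rw [h2] at hq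
  have hint : IsIntegral ℤ (∑ i ∈ Finset.range m, (n i : ℂ) * w ^ i) := by
    have hwint : IsIntegral ℤ w := IsIntegral.of_pow hm (by rw [hw]; exact isIntegral_one)
    refine IsIntegral.sum _ fun i _ => ?_
    exact IsIntegral.mul (isIntegral_natCast_complex (n i)) (IsIntegral.pow hwint i)
  rw [hq] at hint
  obtain ⟨y, hy⟩ := exists_int_of_isIntegral_ratCast q hint
  refine ⟨y, ?_⟩
  rw [hq, ← hy]
  push_cast
  rfl

namespace Setup

local notation "𝒞" => (G ⊓ Subgroup.centralizer (S : Set Γ) : Subgroup Γ)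

/-- The Fourier coefficient formula on `C × S`. -/
theorem fs_formula (h : Setup G S s) [Fintype 𝒞] [Fintype S]
    (ℓ : Γ →* ℂˣ) (hker : ∀ y, ℓ y = 1 ↔ y ∈ G) (hpow : ∀ y, ℓ y ^ Nat.card S = 1)
    (X : Γ → ℂ) (β : 𝒞 → ℂ) (t0 : Γ) (ht0 : t0 ∈ S) :
    ∑ i ∈ Finset.range (Nat.card S), ((ℓ t0 : ℂˣ) : ℂ) ^ i *
      classInner (fun p : 𝒞 × S => X ((p.1 : Γ) * (p.2 : Γ)))
        (fun p : 𝒞 × S => β p.1 * ((ℓ (p.2 : Γ) : ℂˣ) : ℂ) ^ i) =
      classInner (fun c : 𝒞 => X ((c : Γ) * t0)) β := by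
  classical
  have hS0 : (Nat.card S : ℂ) ≠ 0 := by
    have : 0 < Nat.card S := Nat.card_pos
    exact_mod_cast this.ne'
  have hC0 : (Nat.card 𝒞 : ℂ) ≠ 0 := by
    have : 0 < Nat.card 𝒞 := Nat.card_pos
    exact_mod_cast this.ne'
  have key : ∀ (c : 𝒞) (t : S), ∑ i ∈ Finset.range (Nat.card S), ((ℓ t0 : ℂˣ) : ℂ) ^ i *
      (X ((c : Γ) * (t : Γ)) * conj (β c * ((ℓ (t : Γ) : ℂˣ) : ℂ) ^ i)) =
      X ((c : Γ) * (t : Γ)) * conj (β c) * (if (t : Γ) = t0 then (Nat.card S : ℂ) else 0) := by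
    intro c t
    have hiff : t0 * (t : Γ)⁻¹ ∈ G ↔ (t : Γ) = t0 := by
      constructor
      · intro hh
        have : t0 * (t : Γ)⁻¹ ∈ G ⊓ S := ⟨hh, S.mul_mem ht0 (S.inv_mem t.2)⟩
        rw [h.inf_eq_bot, Subgroup.mem_bot] at this
        exact (mul_inv_eq_one.mp this).symm
      · intro hh; rw [hh, mul_inv_cancel]; exact G.one_mem
    have e : (if (t : Γ) = t0 then (Nat.card S : ℂ) else 0) =
        (if t0 * (t : Γ)⁻¹ ∈ G then (Nat.card S : ℂ) else 0) := by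
      by_cases hc : (t : Γ) = t0
      · rw [if_pos hc, if_pos (hiff.mpr hc)]
      · rw [if_neg hc, if_neg (fun h' => hc (hiff.mp h'))]
    rw [e, ← sum_lin ℓ hker hpow (t0 * (t : Γ)⁻¹), Finset.mul_sum]
    refine Finset.sum_congr rfl fun i _ => ?_
    rw [map_mul, map_pow, lin_conj ℓ hpow, map_mul ℓ, Units.val_mul, mul_pow]
    ring
  calc _ = ∑ i ∈ Finset.range (Nat.card S), ∑ p : 𝒞 × S, (Nat.card (𝒞 × S) : ℂ)⁻¹ *
        (((ℓ t0 : ℂˣ) : ℂ) ^ i * (X ((p.1 : Γ) * (p.2 : Γ)) *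
          conj (β p.1 * ((ℓ (p.2 : Γ) : ℂˣ) : ℂ) ^ i))) := by
        refine Finset.sum_congr rfl fun i _ => ?_
        simp only [classInner]
        rw [Finset.mul_sum, Finset.mul_sum]
        refine Finset.sum_congr rfl fun x _ => ?_
        ring
    _ = ∑ p : 𝒞 × S, (Nat.card (𝒞 × S) : ℂ)⁻¹ * ∑ i ∈ Finset.range (Nat.card S),
        (((ℓ t0 : ℂˣ) : ℂ) ^ i * (X ((p.1 : Γ) * (p.2 : Γ)) *
          conj (β p.1 * ((ℓ (p.2 : Γ) : ℂˣ) : ℂ) ^ i))) := by
        rw [Finset.sum_comm]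
        refine Finset.sum_congr rfl fun x _ => ?_
        rw [Finset.mul_sum]
    _ = ∑ p : 𝒞 × S, (Nat.card (𝒞 × S) : ℂ)⁻¹ * (X ((p.1 : Γ) * (p.2 : Γ)) * conj (β p.1) *
          (if (p.2 : Γ) = t0 then (Nat.card S : ℂ) else 0)) := by
        refine Finset.sum_congr rfl fun p _ => ?_
        rw [key]
    _ = ∑ c : 𝒞, (Nat.card (𝒞 × S) : ℂ)⁻¹ * (X ((c : Γ) * t0) * conj (β c) * (Nat.card S : ℂ)) := by
        rw [Fintype.sum_prod_type]
        refine Finset.sum_congr rfl fun c _ => ?_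
        rw [Finset.sum_eq_single (⟨t0, ht0⟩ : S)]
        · simp
        · intro t _ hne
          have : ¬ (t : Γ) = t0 := fun h' => hne (Subtype.ext h')
          simp [this]
        · intro h0; exact absurd (Finset.mem_univ _) h0
    _ = _ := by
        simp only [classInner]
        rw [Finset.mul_sum, Nat.card_prod]
        refine Finset.sum_congr rfl fun c _ => ?_
        push_cast
        field_simp

theorem index_eq [Finite Γ] (h : Setup G S s) : G.index = Nat.card S := by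
  have h1 := Subgroup.card_mul_index G
  rw [h.card_eq] at h1
  exact Nat.eq_of_mul_eq_mul_left Nat.card_pos h1

theorem cop_index [Finite Γ] (h : Setup G S s) : (Nat.card G).Coprime G.index := by
  rw [h.index_eq]; exact h.cop

/-- Every generator of `S` is `s ^ k` with `k` prime to `|S|`. -/
theorem exists_pow_of_gen [Finite Γ] (h : Setup G S s) {s' : Γ}
    (hs' : Subgroup.zpowers s' = S) : ∃ k : ℕ, k.Coprime (Nat.card S) ∧ s' = s ^ k := by
  classical
  have h1 : s' ∈ Subgroup.zpowers s := by rw [h.gen, ← hs']; exact Subgroup.mem_zpowers s'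
  rw [mem_zpowers_iff_mem_range_orderOf] at h1
  obtain ⟨k, -, hk⟩ := Finset.mem_image.mp h1
  refine ⟨k, ?_, hk.symm⟩
  have h2 : orderOf s' = Nat.card S := by rw [← hs', Nat.card_zpowers]
  have h3 : orderOf (s ^ k) = orderOf s / Nat.gcd (orderOf s) k := orderOf_pow s
  rw [hk, h2, h.orderOf_s] at h3
  have h4 : Nat.gcd (Nat.card S) k = 1 := by
    have hpos : 0 < Nat.card S := Nat.card_pos
    rcases (Nat.div_eq_self.mp h3.symm) with h5 | h5
    · omega
    · exact h5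
  exact (Nat.coprime_comm.mp h4)

variable [hG : G.Normal]

/-- Independence of the generator: `χ̂(c s^k) = χ̂(c s)` for `k` prime to `|S|`. -/
theorem canon_pow [Finite Γ] (h : Setup G S s) {χ : G → ℂ} (hχ : IsIrrCharacter G χ)
    {X : Γ → ℂ} (hX : IsCanonExt G χ X) {k : ℕ} (hk : k.Coprime (Nat.card S))
    {c : Γ} (hc : c ∈ G) (hcs : Commute c s) : X (c * s ^ k) = X (c * s) := by
  obtain ⟨K, hK1, hK2⟩ := Nat.chineseRemainder h.cop 1 k
  have hKn : K.Coprime (Nat.card G) := by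
    have := hK1.gcd_eq
    rw [Nat.gcd_one_left] at this
    exact this
  have hKm : K.Coprime (Nat.card S) := by
    have := hK2.gcd_eq
    rw [hk] at this
    exact this
  have hK : K.Coprime (Nat.card Γ) := by
    rw [h.card_eq]; exact Nat.Coprime.mul_right hKn hKm
  have hpow : (c * s) ^ K = c * s ^ k := by
    rw [hcs.mul_pow, pow_G_of_modEq hc hK1, pow_one, pow_S_of_modEq h.s_mem hK2]
  rw [← hpow]
  exact IsCanonExt.pow_eq h.cop_index hχ hX K hK hK1 (c * s)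


/-- **Glauberman correspondence, cyclic case, existence**: `χ̂(c s) = ε β(c)`. -/
theorem exists_sign_char [Fintype Γ] [Fintype G] [Fintype 𝒞] (h : Setup G S s) {χ : G → ℂ}
    (hχ : IsIrrCharacter G χ) {X : Γ → ℂ} (hX : IsCanonExt G χ X) :
    ∃ (β : IrrCharacter 𝒞) (ε : ℤ), (ε = 1 ∨ ε = -1) ∧
      (∀ c : 𝒞, X ((c : Γ) * s) = (ε : ℂ) * β.1 c) ∧
      classInner (fun c : 𝒞 => X (c : Γ)) β.1 ≠ 0 := by
  classical
  haveI : Fintype S := Fintype.ofFinite S
  letI := fintypeIrr 𝒞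
  obtain ⟨ℓ, hker, hpow⟩ := h.exists_lin
  have hXirr := hX.1
  have hXc := isCharacter_of_isIrrCharacter hXirr
  have hXcf := isClassFunction_of_isCharacter hXc
  have hXG : (fun g : G => X g) = χ := funext hX.2.1
  have hCs : ∀ c : 𝒞, Commute (c : Γ) s := fun c => h.commute_of_mem_C c.2
  have hC0 : (Nat.card 𝒞 : ℂ) ≠ 0 := by
    have : 0 < Nat.card 𝒞 := Nat.card_pos
    exact_mod_cast this.ne'
  have hG0 : (Nat.card G : ℂ) ≠ 0 := by
    have : 0 < Nat.card G := Nat.card_pos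
    exact_mod_cast this.ne'
  set ψ : 𝒞 → ℂ := fun c => X ((c : Γ) * s) with hψ
  have hψcf : IsClassFunction 𝒞 ψ := by
    intro c k
    simp only [hψ]
    have e : ((k * c * k⁻¹ : 𝒞) : Γ) * s = (k : Γ) * ((c : Γ) * s) * (k : Γ)⁻¹ := by
      have hk : (k : Γ)⁻¹ * s = s * (k : Γ)⁻¹ := (hCs k).inv_left.eq
      change (k : Γ) * (c : Γ) * (k : Γ)⁻¹ * s = (k : Γ) * ((c : Γ) * s) * (k : Γ)⁻¹
      rw [mul_assoc ((k : Γ) * (c : Γ)), hk]
      group
    rw [e, hXcf]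
  -- the norm of ψ
  have hnorm : classInner ψ ψ = 1 := by
    have h1 := h.sum_coset (fun x => X x * conj (X x)) (by
      intro g _ x
      change X (g * x * g⁻¹) * conj (X (g * x * g⁻¹)) = X x * conj (X x)
      rw [hXcf])
    have h2 := h.coset_norm hXirr (by rw [hXG]; exact hχ)
    beta_reduce at h1
    rw [h2] at h1
    simp only [classInner, hψ]
    have h3 : ∑ c : 𝒞, X ((c : Γ) * s) * conj (X ((c : Γ) * s)) = (Nat.card 𝒞 : ℂ) := by
      have := mul_left_cancel₀ hG0 (by rw [← h1]; ring :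
        (Nat.card G : ℂ) * ∑ c : 𝒞, X ((c : Γ) * s) * conj (X ((c : Γ) * s)) =
          (Nat.card G : ℂ) * (Nat.card 𝒞 : ℂ))
      exact this
    rw [h3, inv_mul_cancel₀ hC0]
  -- characters of C × S
  have hcomm : ∀ (c : 𝒞) (t : S), Commute ((Subgroup.subtype 𝒞) c) ((Subgroup.subtype S) t) := by
    intro c t
    exact ((Subgroup.mem_centralizer_iff.mp c.2.2) t t.2).symm
  set μ : 𝒞 × S →* Γ :=
    MonoidHom.noncommCoprod (Subgroup.subtype 𝒞) (Subgroup.subtype S) hcomm with hμ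
  have hΘ : IsCharacter (𝒞 × S) (fun p : 𝒞 × S => X ((p.1 : Γ) * (p.2 : Γ))) := by
    have h1 := isCharacter_comp μ hXc
    have h2 : (fun p : 𝒞 × S => X (μ p)) = fun p : 𝒞 × S => X ((p.1 : Γ) * (p.2 : Γ)) := by
      funext p
      rw [hμ, MonoidHom.noncommCoprod_apply]
      rfl
    rwa [h2] at h1
  have hB : ∀ (β : IrrCharacter 𝒞) (i : ℕ), IsCharacter (𝒞 × S)
      (fun p : 𝒞 × S => β.1 p.1 * ((ℓ (p.2 : Γ) : ℂˣ) : ℂ) ^ i) := by
    intro β i
    have h1 := isCharacter_comp (MonoidHom.fst 𝒞 S) (isCharacter_of_isIrrCharacter β.2)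
    have h2 := isCharacter_of_isIrrCharacter (Cfsg.Agent.H82.linChar
      ((ℓ ^ i).comp ((Subgroup.subtype S).comp (MonoidHom.snd 𝒞 S)))).2
    have h3 := isCharacter_mul h1 h2
    have h4 : ((fun k : 𝒞 × S => β.1 (MonoidHom.fst 𝒞 S k)) *
        (Cfsg.Agent.H82.linChar ((ℓ ^ i).comp ((Subgroup.subtype S).comp (MonoidHom.snd 𝒞 S)))).1) =
        fun p : 𝒞 × S => β.1 p.1 * ((ℓ (p.2 : Γ) : ℂˣ) : ℂ) ^ i := by
      funext p
      rw [Pi.mul_apply, Cfsg.Agent.H82.linChar_apply]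
      simp
    rwa [h4] at h3
  have hnat : ∀ (β : IrrCharacter 𝒞) (i : ℕ), ∃ n : ℕ,
      classInner (fun p : 𝒞 × S => X ((p.1 : Γ) * (p.2 : Γ)))
        (fun p : 𝒞 × S => β.1 p.1 * ((ℓ (p.2 : Γ) : ℂˣ) : ℂ) ^ i) = n :=
    fun β i => classInner_isCharacter_nat hΘ (hB β i)
  choose n hn using hnat
  set w : ℂ := ((ℓ s : ℂˣ) : ℂ) with hw
  have hwm : w ^ Nat.card S = 1 := lin_pow_val ℓ hpow s
  -- the coefficient formula
  have hfs : ∀ (β : IrrCharacter 𝒞) (t0 : Γ), t0 ∈ S →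
      ∑ i ∈ Finset.range (Nat.card S), (n β i : ℂ) * ((ℓ t0 : ℂˣ) : ℂ) ^ i =
        classInner (fun c : 𝒞 => X ((c : Γ) * t0)) β.1 := by
    intro β t0 ht0
    rw [← h.fs_formula ℓ hker hpow X β.1 t0 ht0]
    refine Finset.sum_congr rfl fun i _ => ?_
    rw [hn β i, mul_comm]
  have hz : ∀ β : IrrCharacter 𝒞, ∃ z : ℤ, classInner ψ β.1 = z := by
    intro β
    have h1 := hfs β s h.s_mem
    rw [← h1]
    apply int_of_galois_invariant (Nat.card S) Nat.card_pos w hwm (n β)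
    intro k hk
    have h2 := hfs β (s ^ k) (S.pow_mem h.s_mem k)
    rw [map_pow, Units.val_pow_eq_pow_val] at h2
    rw [h2, h1]
    congr 1
    funext c
    exact h.canon_pow hχ hX hk c.2.1 (hCs c)
  choose y hy using hz
  -- Parseval
  have hpars : ∑ β : IrrCharacter 𝒞, (y β) ^ 2 = 1 := by
    have h1 := Cfsg.Agent.Clifford.classInner_eq_sum_irr hψcf ψ
    rw [hnorm, finsum_irr_eq_sum] at h1
    have h2 : ∑ β : IrrCharacter 𝒞, ((y β : ℤ) : ℂ) ^ 2 = 1 := by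
      rw [h1]
      refine Finset.sum_congr rfl fun β _ => ?_
      rw [← classInner_conj_symm β.1 ψ, hy β]
      simp [sq]
    exact_mod_cast h2
  obtain ⟨β0, hβ0, hβne⟩ : ∃ β0 : IrrCharacter 𝒞, (y β0) ^ 2 = 1 ∧ ∀ β, β ≠ β0 → y β = 0 := by
    have hex : ∃ β0 ∈ (Finset.univ : Finset (IrrCharacter 𝒞)), (y β0) ^ 2 ≠ 0 := by
      apply Finset.exists_ne_zero_of_sum_ne_zero
      rw [hpars]; exact one_ne_zero
    obtain ⟨β0, -, h0⟩ := hex
    have h1 := Finset.add_sum_erase Finset.univ (fun β => (y β) ^ 2) (Finset.mem_univ β0)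
    rw [hpars] at h1
    have hnn : ∀ β ∈ (Finset.univ : Finset (IrrCharacter 𝒞)).erase β0, 0 ≤ (y β) ^ 2 :=
      fun β _ => sq_nonneg _
    have h2 : 0 ≤ ∑ β ∈ (Finset.univ : Finset (IrrCharacter 𝒞)).erase β0, (y β) ^ 2 :=
      Finset.sum_nonneg hnn
    beta_reduce at h1
    have h3 : 1 ≤ (y β0) ^ 2 := by
      have := sq_nonneg (y β0)
      omega
    have h4 : ∑ β ∈ (Finset.univ : Finset (IrrCharacter 𝒞)).erase β0, (y β) ^ 2 = 0 := by
      omega
    refine ⟨β0, by omega, fun β hβ => ?_⟩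
    have h5 := (Finset.sum_eq_zero_iff_of_nonneg hnn).mp h4 β
      (Finset.mem_erase.mpr ⟨hβ, Finset.mem_univ β⟩)
    exact pow_eq_zero_iff (two_ne_zero) |>.mp h5
  have hψeq : ψ = (y β0 : ℂ) • β0.1 := by
    have h1 := classFunction_eq_finsum hψcf
    rw [finsum_irr_eq_sum] at h1
    rw [h1]
    rw [Finset.sum_eq_single β0]
    · rw [hy β0]
    · intro β _ hβ
      rw [hy β, hβne β hβ]
      simp
    · intro h0; exact absurd (Finset.mem_univ _) h0
  have hε : y β0 = 1 ∨ y β0 = -1 := by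
    have h1 : (y β0 - 1) * (y β0 + 1) = 0 := by
      have : (y β0 - 1) * (y β0 + 1) = (y β0) ^ 2 - 1 := by ring
      rw [this, hβ0]; norm_num
    rcases mul_eq_zero.mp h1 with h2 | h2
    · left; omega
    · right; omega
  refine ⟨β0, y β0, hε, ?_, ?_⟩
  · intro c
    have := congrFun hψeq c
    simpa [hψ] using this
  · have h1 := hfs β0 1 S.one_mem
    simp only [mul_one, map_one, Units.val_one, one_pow] at h1
    rw [← h1]
    have h2 : ∑ i ∈ Finset.range (Nat.card S), (n β0 i : ℂ) =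
        ((∑ i ∈ Finset.range (Nat.card S), n β0 i : ℕ) : ℂ) := by push_cast; rfl
    rw [h2]
    intro h0
    have h3 : ∑ i ∈ Finset.range (Nat.card S), n β0 i = 0 := by exact_mod_cast h0
    have h4 : ∀ i ∈ Finset.range (Nat.card S), n β0 i = 0 := Finset.sum_eq_zero_iff.mp h3
    have h5 := hfs β0 s h.s_mem
    rw [Finset.sum_eq_zero (fun i hi => by rw [h4 i hi]; simp)] at h5
    have h6 : classInner ψ β0.1 = 0 := h5.symm
    rw [hy β0] at h6
    have h7 : y β0 = 0 := by exact_mod_cast h6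
    rw [h7] at hβ0
    norm_num at hβ0

end Setup

end Cfsg.Agent.Glaub
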