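import Mathlib
import Cfsg.Agent.Lib.Glaub.Main
import Cfsg.Agent.H4.BrauerPerm
import Cfsg.Agent.H4.IrrCount

/-!
# The Glauberman correspondence, cyclic case (lead): bijectivity
-/

set_option autoImplicit false
set_option linter.style.haveILetI false

namespace Cfsg.Agent.Glaub

open Cfsg Cfsg.Agent.H4
open scoped ComplexConjugate

universe u

variable {Γ : Type u} [Group Γ] {G S : Subgroup Γ} {s : Γ}

theorem card_subtype_eq_sum {α : Type*} [Fintype α] (P : α → Prop) [DecidablePred P] :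
    (Nat.card {a // P a} : ℂ) = ∑ a, if P a then (1 : ℂ) else 0 := by
  rw [Nat.card_eq_fintype_card, Fintype.card_subtype, Finset.card_filter]
  push_cast
  rfl

/-- `S`-invariance of a function on `G`, in the shape used by the statements. -/
def SInv (G S : Subgroup Γ) (χ : G → ℂ) : Prop :=
  ∀ t ∈ S, ∀ g g' : G, (g' : Γ) = t * g * t⁻¹ → χ g' = χ g

namespace Setup

local notation "𝒞" => (G ⊓ Subgroup.centralizer (S : Set Γ) : Subgroup Γ)

theorem quot_cyclic (h : Setup G S s) [G.Normal] : IsCyclic (Γ ⧸ G) := by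
  rw [isCyclic_iff_exists_zpowers_eq_top]
  refine ⟨QuotientGroup.mk s, eq_top_iff.mpr fun x _ => ?_⟩
  obtain ⟨y, rfl⟩ := QuotientGroup.mk_surjective x
  obtain ⟨g, hg, t, ht, rfl⟩ := h.exists_mul y
  have ht' : t ∈ Subgroup.zpowers s := by rw [h.gen]; exact ht
  obtain ⟨j, rfl⟩ := Subgroup.mem_zpowers_iff.mp ht'
  rw [QuotientGroup.mk_mul, (QuotientGroup.eq_one_iff g).mpr hg, one_mul, QuotientGroup.mk_zpow]
  exact Subgroup.zpow_mem_zpowers _ j

variable [hG : G.Normal]

/-- `S`-invariance is invariance under the generator. -/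
theorem sInv_iff (h : Setup G S s) (χ : G → ℂ) :
    SInv G S χ ↔ ∀ g : G, χ (MulAut.conjNormal s g) = χ g := by
  constructor
  · intro hinv g
    exact hinv s h.s_mem g _ (MulAut.conjNormal_apply s g)
  · intro hs t ht
    have ht' : t ∈ Subgroup.zpowers s := by rw [h.gen]; exact ht
    obtain ⟨j, rfl⟩ := Subgroup.mem_zpowers_iff.mp ht'
    have key : ∀ (j : ℤ) (g : G), χ (MulAut.conjNormal (s ^ j) g) = χ g := by
      intro j
      induction j using Int.induction_on with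
      | zero => intro g; simp
      | succ i ih =>
        intro g
        rw [zpow_add, zpow_one, map_mul, MulAut.mul_apply, ih, hs]
      | pred i ih =>
        intro g
        have h1 := hs (MulAut.conjNormal (s ^ (-(i : ℤ) - 1)) g)
        rw [← MulAut.mul_apply, ← map_mul, ← zpow_one_add] at h1
        have h2 : (1 : ℤ) + (-(i : ℤ) - 1) = -(i : ℤ) := by ring
        rw [h2, ih] at h1
        exact h1.symm
    intro g g' hg'
    have : g' = MulAut.conjNormal (s ^ j) g := by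
      apply Subtype.ext
      rw [hg', MulAut.conjNormal_apply]
    rw [this, key]

/-- Full `Γ`-invariance from `S`-invariance. -/
theorem gamma_inv (h : Setup G S s) {χ : G → ℂ} (hχ : IsClassFunction G χ) (hinv : SInv G S χ)
    (x : Γ) (g : G) : χ ⟨x * g * x⁻¹, hG.conj_mem (g : Γ) g.2 x⟩ = χ g := by
  obtain ⟨g0, hg0, t, ht, rfl⟩ := h.exists_mul x
  have h1 := hinv t ht g ⟨t * g * t⁻¹, hG.conj_mem (g : Γ) g.2 t⟩ rfl
  rw [← h1, ← hχ ⟨t * g * t⁻¹, hG.conj_mem (g : Γ) g.2 t⟩ ⟨g0, hg0⟩]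
  congr 1
  apply Subtype.ext
  push_cast
  group

/-- Injectivity of the correspondence. -/
theorem corr_injective [Fintype Γ] [Fintype G] [Fintype 𝒞] (h : Setup G S s) {χ χ' : G → ℂ}
    (hχ : IsIrrCharacter G χ) (hχ' : IsIrrCharacter G χ') {X X' : Γ → ℂ}
    (hX : IsCanonExt G χ X) (hX' : IsCanonExt G χ' X') (β : IrrCharacter 𝒞) (ε ε' : ℤ)
    (hε : ε = 1 ∨ ε = -1) (hε' : ε' = 1 ∨ ε' = -1)
    (hval : ∀ c : 𝒞, X ((c : Γ) * s) = (ε : ℂ) * β.1 c)
    (hval' : ∀ c : 𝒞, X' ((c : Γ) * s) = (ε' : ℂ) * β.1 c) : χ = χ' := by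
  by_contra hne
  have hXG : (fun g : G => X g) = χ := funext hX.2.1
  have hXG' : (fun g : G => X' g) = χ' := funext hX'.2.1
  have h1 := h.coset_orth hX.1 hX'.1 (by rw [hXG, hXG']; exact hne)
  have hXcf := isClassFunction_of_isCharacter (isCharacter_of_isIrrCharacter hX.1)
  have hXcf' := isClassFunction_of_isCharacter (isCharacter_of_isIrrCharacter hX'.1)
  have h2 := h.sum_coset (fun x => X x * conj (X' x)) (by
    intro g _ x
    change X (g * x * g⁻¹) * conj (X' (g * x * g⁻¹)) = X x * conj (X' x)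
    rw [hXcf, hXcf'])
  beta_reduce at h2
  rw [h1, mul_zero] at h2
  have h3 : ∑ c : 𝒞, X ((c : Γ) * s) * conj (X' ((c : Γ) * s)) =
      (ε : ℂ) * (ε' : ℂ) * (Nat.card 𝒞 : ℂ) := by
    have h4 := irr_inner_self β
    simp only [classInner] at h4
    have hC0 : (Nat.card 𝒞 : ℂ) ≠ 0 := by
      have : 0 < Nat.card 𝒞 := Nat.card_pos
      exact_mod_cast this.ne'
    have h5 : ∑ c : 𝒞, β.1 c * conj (β.1 c) = (Nat.card 𝒞 : ℂ) :=
      ((inv_mul_eq_one₀ hC0).mp h4).symm
    rw [← h5, Finset.mul_sum]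
    refine Finset.sum_congr rfl fun c _ => ?_
    rw [hval, hval', map_mul, map_intCast]
    ring
  rw [h3] at h2
  have hG0 : (Nat.card G : ℂ) ≠ 0 := by
    have : 0 < Nat.card G := Nat.card_pos
    exact_mod_cast this.ne'
  have hC0 : (Nat.card 𝒞 : ℂ) ≠ 0 := by
    have : 0 < Nat.card 𝒞 := Nat.card_pos
    exact_mod_cast this.ne'
  have hε0 : (ε : ℂ) ≠ 0 := by
    rcases hε with rfl | rfl <;> norm_num
  have hε0' : (ε' : ℂ) ≠ 0 := by
    rcases hε' with rfl | rfl <;> norm_num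
  exact (mul_ne_zero hG0 (mul_ne_zero (mul_ne_zero hε0 hε0') hC0)) h2.symm

/-- Commuting with `c * s` is commuting with both factors. -/
theorem conj_fix_iff (h : Setup G S s) {c : Γ} (hc : c ∈ 𝒞) (k : Γ) :
    (c * s) * k * (c * s)⁻¹ = k ↔ Commute c k ∧ Commute s k := by
  have hcs : Commute c s := h.commute_of_mem_C hc
  constructor
  · intro hk
    have h1 : Commute (c * s) k := by
      have : (c * s) * k = k * (c * s) := by
        calc (c * s) * k = ((c * s) * k * (c * s)⁻¹) * (c * s) := by group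
          _ = k * (c * s) := by rw [hk]
      exact this
    obtain ⟨a, ha1, ha2⟩ := h.exists_crt
    have h2 : Commute s k := by
      have := h1.pow_left a
      rwa [mul_pow_crt hc.1 h.s_mem hcs ha1 ha2] at this
    refine ⟨?_, h2⟩
    have h3 : c = (c * s) * s⁻¹ := by group
    rw [h3]
    exact h1.mul_left h2.inv_left
  · rintro ⟨h1, h2⟩
    have h3 : Commute (c * s) k := h1.mul_left h2
    calc (c * s) * k * (c * s)⁻¹ = k * (c * s) * (c * s)⁻¹ := by rw [h3.eq]
      _ = k := by group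

/-- The number of `s`-invariant irreducible characters of `G` is the number of irreducible
characters of `C`. -/
theorem card_inv [Fintype Γ] [Fintype G] [Fintype 𝒞] (h : Setup G S s) :
    Nat.card {χ : IrrCharacter G // ∀ g : G, χ.1 (MulAut.conjNormal s g) = χ.1 g} =
      Nat.card (IrrCharacter 𝒞) := by
  classical
  let β : G → G := fun g => MulAut.conjNormal s g
  let σ : IrrCharacter G → IrrCharacter G := fun χ =>
    ⟨fun g => χ.1 (MulAut.conjNormal s g),
      Clifford.isIrrCharacter_comp_equiv (MulAut.conjNormal s) χ.2⟩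
  have hbp := brauer_permutation β σ (fun χ g => rfl)
  have hL : Nat.card {χ : IrrCharacter G // σ χ = χ} =
      Nat.card {χ : IrrCharacter G // ∀ g : G, χ.1 (MulAut.conjNormal s g) = χ.1 g} := by
    apply Nat.card_congr
    apply Equiv.subtypeEquivRight
    intro χ
    constructor
    · intro hχ g
      exact congrFun (congrArg Subtype.val hχ) g
    · intro hχ
      exact Subtype.ext (funext hχ)
  rw [hL] at hbp
  let F : Γ → ℂ := fun x => (Nat.card {k : G // x * (k : Γ) * x⁻¹ = k} : ℂ)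
  have hF : ∀ g ∈ G, ∀ x, F (g * x * g⁻¹) = F x := by
    intro g hg x
    change (Nat.card {k : G // (g * x * g⁻¹) * (k : Γ) * (g * x * g⁻¹)⁻¹ = k} : ℂ) =
      (Nat.card {k : G // x * (k : Γ) * x⁻¹ = k} : ℂ)
    congr 1
    refine Nat.card_congr (Equiv.subtypeEquiv (MulAut.conjNormal g⁻¹ : G ≃* G).toEquiv ?_)
    intro k
    have hco : ((MulAut.conjNormal g⁻¹ : G ≃* G).toEquiv k : Γ) = g⁻¹ * k * g := by
      change ((MulAut.conjNormal g⁻¹ k : G) : Γ) = _
      rw [MulAut.conjNormal_apply, inv_inv]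
    rw [hco]
    constructor
    · intro hk
      calc x * (g⁻¹ * (k : Γ) * g) * x⁻¹
          = g⁻¹ * ((g * x * g⁻¹) * (k : Γ) * (g * x * g⁻¹)⁻¹) * g := by group
        _ = g⁻¹ * (k : Γ) * g := by rw [hk]
    · intro hk
      calc (g * x * g⁻¹) * (k : Γ) * (g * x * g⁻¹)⁻¹
          = g * (x * (g⁻¹ * (k : Γ) * g) * x⁻¹) * g⁻¹ := by group
        _ = g * (g⁻¹ * (k : Γ) * g) * g⁻¹ := by rw [hk]
        _ = k := by group
  have hR : ∑ x : G, (Nat.card {c : G // c * β x * c⁻¹ = x} : ℂ) = ∑ u : G, F (u * s) := by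
    simp only [F, card_subtype_eq_sum]
    rw [Finset.sum_comm]
    refine Finset.sum_congr rfl fun u _ => Finset.sum_congr rfl fun k _ => ?_
    have hiff : (u * β k * u⁻¹ = k) ↔ ((u : Γ) * s * (k : Γ) * ((u : Γ) * s)⁻¹ = k) := by
      rw [Subtype.ext_iff]
      have : ((u * β k * u⁻¹ : G) : Γ) = (u : Γ) * s * (k : Γ) * ((u : Γ) * s)⁻¹ := by
        change (u : Γ) * ((MulAut.conjNormal s k : G) : Γ) * (u : Γ)⁻¹ = _
        rw [MulAut.conjNormal_apply]
        group
      rw [this]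
    simp only [hiff]
  rw [hR] at hbp
  have hsc := h.sum_coset F hF
  have hCs : ∀ c : 𝒞, F ((c : Γ) * s) = (Nat.card {k : 𝒞 // Commute c k} : ℂ) := by
    intro c
    change (Nat.card {k : G // ((c : Γ) * s) * (k : Γ) * ((c : Γ) * s)⁻¹ = k} : ℂ) = _
    congr 1
    refine Nat.card_congr
      { toFun := fun k => ⟨⟨(k.1 : Γ), h.mem_C_of_commute k.1.2
            ((h.conj_fix_iff c.2 _).mp k.2).2.symm⟩, by
            have := ((h.conj_fix_iff c.2 _).mp k.2).1
            exact Subtype.ext this.eq⟩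
        invFun := fun k => ⟨⟨(k.1 : Γ), k.1.2.1⟩, by
            refine (h.conj_fix_iff c.2 _).mpr ⟨?_, ?_⟩
            · have := k.2
              exact congrArg Subtype.val this.eq
            · exact (h.commute_of_mem_C k.1.2).symm⟩
        left_inv := fun k => rfl
        right_inv := fun k => rfl }
  have hsum : ∑ c : 𝒞, F ((c : Γ) * s) =
      (Nat.card (ConjClasses 𝒞) : ℂ) * (Nat.card 𝒞 : ℂ) := by
    simp only [hCs]
    rw [← Nat.cast_mul, ← card_comm_eq_card_conjClasses_mul_card, ← Nat.cast_sum]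
    congr 1
    rw [Nat.card_congr (Equiv.subtypeProdEquivSigmaSubtype (fun c k : 𝒞 => Commute c k)),
      Nat.card_sigma]
  rw [hsum, ← hbp] at hsc
  have hG0 : (Nat.card G : ℂ) ≠ 0 := by
    have : 0 < Nat.card G := Nat.card_pos
    exact_mod_cast this.ne'
  have hC0 : (Nat.card 𝒞 : ℂ) ≠ 0 := by
    have : 0 < Nat.card 𝒞 := Nat.card_pos
    exact_mod_cast this.ne'
  have hfin : (Nat.card {χ : IrrCharacter G // ∀ g : G, χ.1 (MulAut.conjNormal s g) = χ.1 g} : ℂ)
      = (Nat.card (ConjClasses 𝒞) : ℂ) := by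
    have : (Nat.card 𝒞 : ℂ) * (Nat.card G : ℂ) *
        (Nat.card {χ : IrrCharacter G // ∀ g : G, χ.1 (MulAut.conjNormal s g) = χ.1 g} : ℂ) =
        (Nat.card 𝒞 : ℂ) * (Nat.card G : ℂ) * (Nat.card (ConjClasses 𝒞) : ℂ) := by
      linear_combination hsc
    exact mul_left_cancel₀ (mul_ne_zero hC0 hG0) this
  rw [card_irr_eq_card_conjClasses]
  exact_mod_cast hfin

/-- Surjectivity of the correspondence. -/
theorem exists_corr [Fintype Γ] [Fintype G] [Fintype 𝒞] (h : Setup G S s) (β : IrrCharacter 𝒞) :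
    ∃ (χ : IrrCharacter G) (X : Γ → ℂ) (ε : ℤ), SInv G S χ.1 ∧ IsCanonExt G χ.1 X ∧
      (ε = 1 ∨ ε = -1) ∧ ∀ c : 𝒞, X ((c : Γ) * s) = (ε : ℂ) * β.1 c := by
  classical
  have key : ∀ χ : {χ : IrrCharacter G // ∀ g : G, χ.1 (MulAut.conjNormal s g) = χ.1 g},
      ∃ (β : IrrCharacter 𝒞), ∃ (X : Γ → ℂ) (ε : ℤ), IsCanonExt G χ.1.1 X ∧ (ε = 1 ∨ ε = -1) ∧
        ∀ c : 𝒞, X ((c : Γ) * s) = (ε : ℂ) * β.1 c := by
    intro χ
    have hinv : SInv G S χ.1.1 := (h.sInv_iff _).mpr χ.2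
    obtain ⟨X, hX⟩ := exists_canonExt h.cop_index h.quot_cyclic χ.1.2
      (h.gamma_inv (isClassFunction_of_isCharacter (isCharacter_of_isIrrCharacter χ.1.2)) hinv)
    obtain ⟨β, ε, hε, hval, -⟩ := h.exists_sign_char χ.1.2 hX
    exact ⟨β, X, ε, hX, hε, hval⟩
  choose Φ X ε hX hε hval using key
  have hinj : Function.Injective Φ := by
    intro χ χ' hΦ
    have := h.corr_injective χ.1.2 χ'.1.2 (hX χ) (hX χ') (Φ χ) (ε χ) (ε χ') (hε χ) (hε χ')
      (hval χ) (by rw [hΦ]; exact hval χ')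
    exact Subtype.ext (Subtype.ext this)
  haveI : Finite (IrrCharacter 𝒞) := (fintypeIrr 𝒞).finite
  have hbij := hinj.bijective_of_nat_card_le (le_of_eq h.card_inv.symm)
  obtain ⟨χ, rfl⟩ := hbij.2 β
  exact ⟨χ.1, X χ, ε χ, (h.sInv_iff _).mpr χ.2, hX χ, hε χ, hval χ⟩

end Setup

end Cfsg.Agent.Glaub
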