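import Mathlib
import Cfsg.Agent.Lib.Glaub.Bij
import Cfsg.Agent.H4.EquivChar

/-!
# The Glauberman correspondence, cyclic case (lead): subgroups of the acting group
-/

set_option autoImplicit false
set_option linter.style.haveILetI false

namespace Cfsg.Agent.Glaub

open Cfsg Cfsg.Agent.H4
open scoped ComplexConjugate

universe u

/-- A character whose pullback along a homomorphism is irreducible is itself irreducible. -/
theorem isIrrCharacter_of_comp_irr {A B : Type*} [Group A] [Group B] [Finite A] (f : A →* B)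
    {X : B → ℂ} (hX : IsCharacter B X) (hirr : IsIrrCharacter A (fun a => X (f a))) :
    IsIrrCharacter B X := by
  obtain ⟨n, ρ, rfl⟩ := hX
  obtain ⟨m, σ, hσ, hchar⟩ := hirr
  haveI := hσ
  let ρf : Representation ℂ A (Fin n → ℂ) := ρ.comp f
  have h1 : σ.character = ρf.character := hchar
  obtain ⟨φ⟩ := Cfsg.Agent.H4.equiv_of_character_eq σ ρf h1
  haveI : ρf.IsIrreducible := Cfsg.Agent.H82.irreducible_of_equiv φ
  exact ⟨n, ρ, Cfsg.Agent.H82.isIrreducible_of_forall_exists ρf ρ (fun a => ⟨f a, rfl⟩), rfl⟩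

variable {Γ : Type u} [Group Γ] {G S : Subgroup Γ} {s : Γ}

namespace Setup

local notation "𝒞" => (G ⊓ Subgroup.centralizer (S : Set Γ) : Subgroup Γ)

variable [hG : G.Normal]

/-- The sign/character formula on the coset `C x` for an arbitrary element `x` of `S` whose
centraliser in `G` is `C`. -/
theorem exists_sign_char_sub [Fintype Γ] [Fintype G] [Fintype 𝒞] (h : Setup G S s) {χ : G → ℂ}
    (hχ : IsIrrCharacter G χ) {X : Γ → ℂ} (hX : IsCanonExt G χ X) (x : Γ) (hx : x ∈ S)
    (hfix : G ⊓ Subgroup.centralizer ({x} : Set Γ) = 𝒞) :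
    ∃ (β : IrrCharacter 𝒞) (ε : ℤ), (ε = 1 ∨ ε = -1) ∧
      ∀ c : 𝒞, X ((c : Γ) * x) = (ε : ℂ) * β.1 c := by
  classical
  set T : Subgroup Γ := Subgroup.zpowers x with hT
  have hTS : T ≤ S := by
    rw [hT, Subgroup.zpowers_le]; exact hx
  set Γ' : Subgroup Γ := G ⊔ T with hΓ'
  have hGle : G ≤ Γ' := le_sup_left
  have hTle : T ≤ Γ' := le_sup_right
  set G' : Subgroup Γ' := G.subgroupOf Γ' with hG'
  set T' : Subgroup Γ' := T.subgroupOf Γ' with hT'
  have hxΓ' : x ∈ Γ' := hTle (Subgroup.mem_zpowers x)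
  set x' : Γ' := ⟨x, hxΓ'⟩ with hx'
  haveI : G'.Normal := Subgroup.normal_subgroupOf
  have hcardG' : Nat.card G' = Nat.card G :=
    Nat.card_congr (Subgroup.subgroupOfEquivOfLe hGle).toEquiv
  have hcardT' : Nat.card T' = Nat.card T :=
    Nat.card_congr (Subgroup.subgroupOfEquivOfLe hTle).toEquiv
  have hTdvd : Nat.card T ∣ Nat.card S := Subgroup.card_dvd_of_le hTS
  have hset' : Setup G' T' x' := by
    refine ⟨inferInstance, ?_, ?_, ?_⟩
    · rw [hcardG', hcardT']
      exact Nat.Coprime.coprime_dvd_right hTdvd h.cop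
    · rw [hG', hT', ← Subgroup.subgroupOf_sup hGle hTle]
      exact Subgroup.subgroupOf_self _
    · ext y
      rw [hT', Subgroup.mem_subgroupOf, hT, Subgroup.mem_zpowers_iff, Subgroup.mem_zpowers_iff]
      constructor
      · rintro ⟨k, rfl⟩
        exact ⟨k, by simp [hx']⟩
      · rintro ⟨k, hk⟩
        exact ⟨k, Subtype.ext (by simpa [hx'] using hk)⟩
  let e : G' ≃* G := Subgroup.subgroupOfEquivOfLe hGle
  have he : ∀ g : G', ((e g : G) : Γ) = ((g : Γ') : Γ) := fun g => rfl
  set χ' : G' → ℂ := fun g => χ (e g) with hχ'def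
  have hχ' : IsIrrCharacter G' χ' := Clifford.isIrrCharacter_comp_equiv e hχ
  set X' : Γ' → ℂ := fun y => X y with hX'def
  have hXG' : ∀ g : G', X' g = χ' g := by
    intro g
    change X ((g : Γ') : Γ) = χ (e g)
    rw [← hX.2.1 (e g), he]
  have hXchar : IsCharacter Γ X := isCharacter_of_isIrrCharacter hX.1
  have hX'char : IsCharacter Γ' X' := isCharacter_restrict Γ' hXchar
  have hX'irr : IsIrrCharacter Γ' X' := by
    refine isIrrCharacter_of_comp_irr G'.subtype hX'char ?_
    have : (fun a : G' => X' (G'.subtype a)) = χ' := funext hXG'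
    rw [this]
    exact hχ'
  have hdet : detOrder X' ∣ detOrder X := by
    refine detOrder_dvd X' _ fun y => ?_
    rw [hX'def, detChar_restrict Γ' hXchar y]
    exact detChar_pow_detOrder X y
  have hcanon' : IsCanonExt G' χ' X' := by
    refine ⟨hX'irr, hXG', ?_⟩
    rw [hset'.index_eq, hcardT']
    have h1 : (detOrder X).Coprime (Nat.card S) := by
      have := hX.2.2
      rwa [h.index_eq] at this
    exact Nat.Coprime.coprime_dvd_left hdet (Nat.Coprime.coprime_dvd_right hTdvd h1)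
  haveI : Fintype Γ' := Fintype.ofFinite _
  haveI : Fintype G' := Fintype.ofFinite _
  haveI : Fintype (G' ⊓ Subgroup.centralizer (T' : Set Γ') : Subgroup Γ') := Fintype.ofFinite _
  obtain ⟨β', ε, hε, hval, -⟩ := hset'.exists_sign_char hχ' hcanon'
  -- transport along `C ≃ C'`
  have hm1 : ∀ c : 𝒞, (c : Γ) ∈ Γ' := fun c => hGle c.2.1
  have hm2 : ∀ c : 𝒞, (⟨(c : Γ), hm1 c⟩ : Γ') ∈
      (G' ⊓ Subgroup.centralizer (T' : Set Γ') : Subgroup Γ') := by
    intro c
    refine Subgroup.mem_inf.mpr ⟨Subgroup.mem_subgroupOf.mpr c.2.1,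
      Subgroup.mem_centralizer_iff.mpr ?_⟩
    intro t ht
    apply Subtype.ext
    have ht' : (t : Γ) ∈ S := hTS (Subgroup.mem_subgroupOf.mp ht)
    have := (Subgroup.mem_centralizer_iff.mp c.2.2) (t : Γ) ht'
    simpa using this
  have hm3 : ∀ c : (G' ⊓ Subgroup.centralizer (T' : Set Γ') : Subgroup Γ'),
      (((c : Γ') : Γ)) ∈ 𝒞 := by
    intro c
    rw [← hfix]
    refine Subgroup.mem_inf.mpr ⟨Subgroup.mem_subgroupOf.mp c.2.1,
      Subgroup.mem_centralizer_iff.mpr ?_⟩
    intro y hy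
    rw [Set.mem_singleton_iff] at hy
    subst hy
    have hxT' : x' ∈ (T' : Set Γ') := by
      change x' ∈ T'
      rw [hT', Subgroup.mem_subgroupOf]
      exact Subgroup.mem_zpowers _
    have := (Subgroup.mem_centralizer_iff.mp c.2.2) x' hxT'
    have h2 := congrArg (Subtype.val : Γ' → Γ) this
    simpa [hx'] using h2
  let e𝒞 : 𝒞 ≃* (G' ⊓ Subgroup.centralizer (T' : Set Γ') : Subgroup Γ') :=
    { toFun := fun c => ⟨⟨(c : Γ), hm1 c⟩, hm2 c⟩
      invFun := fun c => ⟨((c : Γ') : Γ), hm3 c⟩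
      left_inv := fun c => rfl
      right_inv := fun c => rfl
      map_mul' := fun a b => rfl }
  refine ⟨⟨fun c => β'.1 (e𝒞 c), Clifford.isIrrCharacter_comp_equiv e𝒞 β'.2⟩, ε, hε, fun c => ?_⟩
  have := hval (e𝒞 c)
  exact this

end Setup

end Cfsg.Agent.Glaub
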